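import Cfsg.Agent.BaseSize.Fano

/-!
# Colourings of finite squarefree-exponent abelian groups by field elements

For `L = Π i, ZMod (r i)` with all `r i` dividing `q - 1`, a colouring `c : L → k` (`#k = q`) such
that every semilinear pair `(h, σ)` from a solvable group preserving it away from zero is trivial.
-/

set_option autoImplicit false
set_option linter.style.haveILetI false

open Finset

namespace Cfsg.Agent.BaseSize.Colour

variable {m : ℕ} {r : Fin m → ℕ}

/-- The indicator of a finite set of indices. -/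
def ind (r : Fin m → ℕ) (S : Finset (Fin m)) : (i : Fin m) → ZMod (r i) :=
  fun i => if i ∈ S then 1 else 0

theorem ind_eq_sum (S : Finset (Fin m)) :
    ind r S = ∑ i ∈ S, Pi.single (M := fun i => ZMod (r i)) i 1 := by
  funext j
  rw [Finset.sum_apply, ind]
  by_cases hj : j ∈ S
  · rw [if_pos hj, Finset.sum_eq_single j]
    · simp
    · intro i _ hi; simp [Ne.symm hi]
    · exact fun h => absurd hj h
  · rw [if_neg hj, Finset.sum_eq_zero]
    intro i hi
    have : j ≠ i := fun e => hj (e ▸ hi)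
    simp [this]

theorem ind_singleton (i : Fin m) :
    ind r {i} = Pi.single (M := fun i => ZMod (r i)) i 1 := by
  rw [ind_eq_sum, Finset.sum_singleton]

theorem one_ne_zero' (hr : ∀ i, (r i).Prime) (i : Fin m) : (1 : ZMod (r i)) ≠ 0 := by
  haveI := Fact.mk (hr i)
  exact one_ne_zero

theorem ind_injective (hr : ∀ i, (r i).Prime) : Function.Injective (ind r) := by
  intro S T h
  ext i
  have hi := congrFun h i
  simp only [ind] at hi
  constructor <;> intro hm <;> by_contra hn
  · rw [if_pos hm, if_neg hn] at hi; exact one_ne_zero' hr i hi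
  · rw [if_neg hn, if_pos hm] at hi; exact one_ne_zero' hr i hi.symm

theorem ind_ne_zero (hr : ∀ i, (r i).Prime) {S : Finset (Fin m)} (hS : S.Nonempty) :
    ind r S ≠ 0 := by
  obtain ⟨i, hi⟩ := hS
  intro h
  have := congrFun h i
  simp only [ind, if_pos hi, Pi.zero_apply] at this
  exact one_ne_zero' hr i this

theorem eq_id_of_fix (hr : ∀ i, (r i).Prime)
    (h : ((i : Fin m) → ZMod (r i)) ≃+ ((i : Fin m) → ZMod (r i)))
    (hb : ∀ i, h (ind r {i}) = ind r {i}) : ∀ a, h a = a := by
  intro a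
  haveI : ∀ i, NeZero (r i) := fun i => ⟨(hr i).ne_zero⟩
  have ha : a = ∑ i, Pi.single (M := fun i => ZMod (r i)) i (a i) :=
    (Finset.univ_sum_single a).symm
  have hs : ∀ i, Pi.single (M := fun i => ZMod (r i)) i (a i) = (a i).val • ind r {i} := by
    intro i
    funext j
    rw [ind_singleton, Pi.smul_apply]
    by_cases hj : j = i
    · subst hj
      rw [Pi.single_eq_same, Pi.single_eq_same, nsmul_eq_mul, mul_one, ZMod.natCast_zmod_val]
    · rw [Pi.single_eq_of_ne hj, Pi.single_eq_of_ne hj, smul_zero]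
  calc h a = h (∑ i, (a i).val • ind r {i}) := by rw [← Finset.sum_congr rfl fun i _ => hs i, ← ha]
    _ = ∑ i, (a i).val • ind r {i} := by simp only [map_sum, map_nsmul, hb]
    _ = a := by rw [← Finset.sum_congr rfl fun i _ => hs i, ← ha]

theorem exists_field_gen (k : Type*) [Field k] [Finite k] (hq : 3 ≤ Nat.card k) :
    ∃ γ : k, γ ≠ 0 ∧ γ ≠ 1 ∧ ∀ s : k ≃+* k, s γ = γ → ∀ t, s t = t := by
  obtain ⟨u, hu⟩ := IsCyclic.exists_generator (α := kˣ)
  have hfix : ∀ s : k ≃+* k, s (u : k) = (u : k) → ∀ t, s t = t := by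
    intro s hs t
    by_cases ht : t = 0
    · simp [ht]
    obtain ⟨n, hn⟩ := Subgroup.mem_zpowers_iff.mp (hu (Units.mk0 t ht))
    have : t = (u : k) ^ n := by
      rw [← Units.val_zpow_eq_zpow_val, hn, Units.val_mk0]
    rw [this, map_zpow₀, hs]
  refine ⟨u, u.ne_zero, ?_, hfix⟩
  intro hu1
  have hu1' : u = 1 := Units.ext hu1
  have hall : ∀ v : kˣ, v = 1 := by
    intro v
    obtain ⟨n, hn⟩ := Subgroup.mem_zpowers_iff.mp (hu v)
    rw [← hn, hu1', one_zpow]
  have hsub : Subsingleton kˣ := ⟨fun a b => by rw [hall a, hall b]⟩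
  have hle : Nat.card k ≤ Nat.card (Option kˣ) := by
    refine Nat.card_le_card_of_surjective (fun o => o.elim (0 : k) (fun v => (v : k))) ?_
    intro t
    by_cases ht : t = 0
    · exact ⟨none, ht.symm⟩
    · exact ⟨some (Units.mk0 t ht), rfl⟩
  haveI : Fintype kˣ := Fintype.ofFinite _
  rw [Nat.card_eq_fintype_card (α := Option kˣ), Fintype.card_option] at hle
  have h1 : Fintype.card kˣ ≤ 1 := Fintype.card_le_one_iff_subsingleton.mpr hsub
  omega

theorem prime_field_auto {k : Type*} [Field k] [Finite k] (hp : (Nat.card k).Prime)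
    (s : k ≃+* k) : ∀ t, s t = t := by
  intro t
  obtain ⟨n, rfl⟩ : ∃ n : ℕ, n • (1 : k) = t := by
    have hg : t ∈ AddSubgroup.zmultiples (1 : k) := by
      haveI : Fact (Nat.card k).Prime := ⟨hp⟩
      rw [zmultiples_eq_top_of_prime_card rfl one_ne_zero]
      trivial
    exact mem_multiples_iff_mem_zmultiples.mpr hg
  simp

/-- What a good colouring has to satisfy. -/
def Good {k : Type*} [Field k] {K : Type*}
    (h : K → (((i : Fin m) → ZMod (r i)) ≃+ ((i : Fin m) → ZMod (r i)))) (σ : K → (k ≃+* k))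
    (c : ((i : Fin m) → ZMod (r i)) → k) : Prop :=
  (∀ g, (∀ a, a ≠ 0 → σ g (c a) = c (h g a)) → (∀ a, h g a = a) ∧ ∀ t, σ g t = t) ∧
    (Nat.card k ≤ 4 → ∃ a, a ≠ 0 ∧ c a = 0)

section
variable {k : Type*} [Field k]

open Classical in
/-- The colouring with class `C2` coloured `γ` and class `C1` coloured `1`. -/
noncomputable def two (γ : k) (C2 C1 : Set ((i : Fin m) → ZMod (r i))) :
    ((i : Fin m) → ZMod (r i)) → k :=
  fun a => if a ∈ C2 then γ else if a ∈ C1 then 1 else 0

theorem two_spec {γ : k} (h0 : γ ≠ 0) (h1 : γ ≠ 1)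
    (hfix : ∀ s : k ≃+* k, s γ = γ → ∀ t, s t = t)
    {C2 C1 : Set ((i : Fin m) → ZMod (r i))} (h20 : 0 ∉ C2) (h2 : C2.Nonempty)
    (h10 : 0 ∉ C1) (hd : ∀ a ∈ C1, a ∉ C2) (s : k ≃+* k)
    (h : ((i : Fin m) → ZMod (r i)) ≃+ ((i : Fin m) → ZMod (r i)))
    (hp : ∀ a, a ≠ 0 → s (two γ C2 C1 a) = two γ C2 C1 (h a)) :
    (∀ t, s t = t) ∧ (∀ a ∈ C2, h a ∈ C2) ∧ ∀ a ∈ C1, h a ∈ C1 := by
  classical
  have val2 : ∀ a ∈ C2, two γ C2 C1 a = γ := fun a ha => by rw [two, if_pos ha]
  have hs : ∀ t, s t = t := by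
    obtain ⟨b, hb⟩ := h2
    have hb' := hp b (fun e => h20 (e ▸ hb))
    rw [val2 b hb] at hb'
    by_cases hx2 : h b ∈ C2
    · rw [val2 _ hx2] at hb'; exact hfix s hb'
    rw [two, if_neg hx2] at hb'
    by_cases hx1 : h b ∈ C1
    · rw [if_pos hx1] at hb'
      exact absurd (s.injective (hb'.trans (map_one s).symm)) h1
    · rw [if_neg hx1] at hb'
      exact absurd (s.injective (hb'.trans (map_zero s).symm)) h0
  refine ⟨hs, fun a ha => ?_, fun a ha => ?_⟩
  · have h' := hp a (fun e => h20 (e ▸ ha))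
    rw [hs, val2 a ha, two] at h'
    by_contra hn
    rw [if_neg hn] at h'
    split_ifs at h'
    · exact h1 h'
    · exact h0 h'
  · have h' := hp a (fun e => h10 (e ▸ ha))
    rw [hs, two, two, if_neg (hd a ha), if_pos ha] at h'
    by_contra hn
    split_ifs at h'
    · exact h1 h'.symm
    · exact one_ne_zero h'

variable {K : Type*} [Finite k]

theorem good_one {r : Fin 1 → ℕ} (hr : ∀ i, (r i).Prime) (hdvd : ∀ i, r i ∣ Nat.card k - 1)
    (hq : 3 ≤ Nat.card k)
    (h : K → (((i : Fin 1) → ZMod (r i)) ≃+ ((i : Fin 1) → ZMod (r i))))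
    (σ : K → (k ≃+* k)) : ∃ c, Good h σ c := by
  classical
  obtain ⟨γ, h0, h1, hfix⟩ := exists_field_gen k hq
  by_cases hsmall : r 0 = 2 ∧ Nat.card k ≤ 4
  · have hk : Nat.card k = 3 := by
      have h' := hdvd 0
      rw [hsmall.1] at h'
      obtain ⟨t, ht⟩ := h'
      omega
    refine ⟨fun _ => 0, fun g _ => ⟨?_, prime_field_auto (by rw [hk]; norm_num) _⟩, fun _ => ?_⟩
    · refine eq_id_of_fix hr (h g) fun i => ?_
      have hne : h g (ind r {i}) ≠ 0 := by
        simpa using ind_ne_zero hr (Finset.singleton_nonempty i)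
      funext j
      fin_cases j
      have hj : h g (ind r {i}) 0 ≠ 0 := fun e => hne (funext fun j => by fin_cases j; exact e)
      have hi : i = 0 := Subsingleton.elim _ _
      subst hi
      have hall : ∀ z : ZMod (r 0), z ≠ 0 → z = 1 := by rw [hsmall.1]; decide
      exact (hall _ hj).trans (by simp [ind])
    · exact ⟨ind r {0}, ind_ne_zero hr (Finset.singleton_nonempty _), rfl⟩
  refine ⟨two γ {ind r {0}} ∅, fun g hp => ?_, fun hq4 => ?_⟩
  · obtain ⟨hs, hC, -⟩ := two_spec (C2 := {ind r {0}}) (C1 := ∅) h0 h1 hfix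
      (fun e => ind_ne_zero hr (Finset.singleton_nonempty _) (Set.mem_singleton_iff.mp e).symm)
      ⟨_, rfl⟩ (Set.notMem_empty _) (fun a ha => absurd ha (Set.notMem_empty a)) (σ g) (h g) hp
    exact ⟨eq_id_of_fix hr _ fun i => by rw [Subsingleton.elim i 0]; exact hC _ rfl, hs⟩
  · have h3 : 3 ≤ r 0 := by
      have := (hr 0).two_le
      have : r 0 ≠ 2 := fun e => hsmall ⟨e, hq4⟩
      omega
    refine ⟨2 • ind r {0}, fun e => ?_, ?_⟩
    · have := congrFun e 0
      simp only [Pi.smul_apply, ind, Finset.mem_singleton, if_true, nsmul_eq_mul, mul_one,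
        Pi.zero_apply] at this
      rw [ZMod.natCast_eq_zero_iff] at this
      have := Nat.le_of_dvd two_pos this
      omega
    · have : 2 • ind r {0} ≠ ind r {0} := fun e => ind_ne_zero hr (Finset.singleton_nonempty 0)
        (by rw [two_nsmul] at e; exact add_eq_left.mp e)
      simp only [two, Set.mem_singleton_iff, Set.mem_empty_iff_false, if_neg this, if_false]

theorem good_two {r : Fin 2 → ℕ} (hr : ∀ i, (r i).Prime) (hq : 3 ≤ Nat.card k)
    (h : K → (((i : Fin 2) → ZMod (r i)) ≃+ ((i : Fin 2) → ZMod (r i))))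
    (σ : K → (k ≃+* k)) : ∃ c, Good h σ c := by
  classical
  obtain ⟨γ, h0, h1, hfix⟩ := exists_field_gen k hq
  have hinj := ind_injective hr
  refine ⟨two γ {ind r {0}} {ind r {1}}, fun g hp => ?_, fun _ => ⟨ind r {0, 1},
    ind_ne_zero hr ⟨0, by simp⟩, ?_⟩⟩
  · obtain ⟨hs, hC, hC'⟩ := two_spec (C2 := {ind r {0}}) (C1 := {ind r {1}}) h0 h1 hfix
      (fun e => ind_ne_zero hr (Finset.singleton_nonempty _) (Set.mem_singleton_iff.mp e).symm)
      ⟨_, rfl⟩
      (fun e => ind_ne_zero hr (Finset.singleton_nonempty _) (Set.mem_singleton_iff.mp e).symm)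
      (fun a ha hb => by
        rw [Set.mem_singleton_iff] at ha hb
        exact absurd (hinj (ha.symm.trans hb)) (by decide)) (σ g) (h g) hp
    refine ⟨eq_id_of_fix hr _ fun i => ?_, hs⟩
    fin_cases i
    · exact hC _ rfl
    · exact hC' _ rfl
  · simp only [two, Set.mem_singleton_iff, hinj.eq_iff]
    rw [if_neg (by decide), if_neg (by decide)]

theorem good_three {r : Fin 3 → ℕ} (hr : ∀ i, (r i).Prime) (hdvd : ∀ i, r i ∣ Nat.card k - 1)
    (hq : 4 ≤ Nat.card k)
    (h : K → (((i : Fin 3) → ZMod (r i)) ≃+ ((i : Fin 3) → ZMod (r i))))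
    (σ : K → (k ≃+* k)) : ∃ c, Good h σ c := by
  classical
  obtain ⟨γ, h0, h1, hfix⟩ := exists_field_gen k (by omega)
  obtain ⟨δ, hδ⟩ : ∃ δ : k, δ ∉ ({0, 1, γ} : Finset k) := by
    haveI : Fintype k := Fintype.ofFinite k
    by_contra hcon
    simp only [not_exists, not_not] at hcon
    have := Finset.card_le_card (s := (Finset.univ : Finset k)) (fun x _ => hcon x)
    rw [Finset.card_univ, ← Nat.card_eq_fintype_card] at this
    have := this.trans Finset.card_le_three
    omega
  simp only [Finset.mem_insert, Finset.mem_singleton, not_or] at hδ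
  obtain ⟨hd0, hd1, hdg⟩ := hδ
  have hinj := ind_injective hr
  let C : Finset (Fin 3) → k := fun S =>
    if S = {0} then γ else if S = {1} then 1 else if S = {2} ∨ S = {0, 1} then δ else 0
  let c : ((i : Fin 3) → ZMod (r i)) → k := fun a =>
    if hh : ∃ S, ind r S = a then C hh.choose else 0
  have hc : ∀ S, c (ind r S) = C S := by
    intro S
    have hh : ∃ S', ind r S' = ind r S := ⟨S, rfl⟩
    simp only [c, dif_pos hh, hinj hh.choose_spec]
  refine ⟨c, fun g hp => ?_, fun hq4 => ?_⟩
  · have key : ∀ x : k, x ≠ 0 → ∀ a, c a = x →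
        ∃ S, ind r S = a ∧ C S = x := by
      intro x hx a ha
      by_cases hh : ∃ S, ind r S = a
      · obtain ⟨S, rfl⟩ := hh; exact ⟨S, rfl, (hc S).symm.trans ha⟩
      · simp only [c, dif_neg hh] at ha; exact absurd ha.symm hx
    have cls : ∀ x : k, x ≠ 0 → ∀ S : Finset (Fin 3), S.Nonempty → C S = x →
        ∃ T, h g (ind r S) = ind r T ∧ C T = σ g x := by
      intro x hx S hS hCS
      have h' := hp (ind r S) (ind_ne_zero hr hS)
      rw [hc, hCS] at h'
      obtain ⟨T, hT, hCT⟩ := key _ (by simpa using hx) _ h'.symm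
      exact ⟨T, hT.symm, hCT⟩
    obtain ⟨T0, hT0, hC0⟩ := cls γ h0 {0} (by simp) (by simp [C])
    obtain ⟨T2, hT2, hC2⟩ := cls δ hd0 {2} (by simp) (by simp [C])
    obtain ⟨T3, hT3, hC3⟩ := cls δ hd0 {0, 1} (by simp) (by
      simp only [C]; rw [if_neg (by decide), if_neg (by decide), if_pos (by decide)])
    obtain ⟨T1, hT1, hC1⟩ := cls 1 one_ne_zero {1} (by simp) (by
      simp only [C]; rw [if_neg (by decide), if_pos (by decide)])
    have hs0 : σ g γ ≠ 0 := by simpa using h0
    have hs1 : σ g γ ≠ 1 := fun e => h1 ((σ g).injective (e.trans (map_one _).symm))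
    have cases : ∀ T, C T = 0 ∨ (T = {0} ∧ C T = γ) ∨ (T = {1} ∧ C T = 1) ∨
        ((T = {2} ∨ T = {0, 1}) ∧ C T = δ) := by
      intro T
      simp only [C]
      by_cases e0 : T = {0}
      · exact Or.inr (Or.inl ⟨e0, if_pos e0⟩)
      by_cases e1 : T = {1}
      · exact Or.inr (Or.inr (Or.inl ⟨e1, by rw [if_neg e0, if_pos e1]⟩))
      by_cases e2 : T = {2} ∨ T = {0, 1}
      · exact Or.inr (Or.inr (Or.inr ⟨e2, by rw [if_neg e0, if_neg e1, if_pos e2]⟩))
      · exact Or.inl (by rw [if_neg e0, if_neg e1, if_neg e2])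
    have hγ : σ g γ = γ := by
      rcases cases T0 with e | ⟨-, e⟩ | ⟨-, e⟩ | ⟨hT, e⟩
      · exact absurd (hC0.symm.trans e) hs0
      · exact hC0.symm.trans e
      · exact absurd (hC0.symm.trans e) hs1
      -- otherwise the two points coloured `δ` go to at most one further point
      · exfalso
        have hne : σ g δ ≠ δ := fun e' =>
          hdg ((σ g).injective (e'.trans (hC0.symm.trans e).symm))
        have hsd1 : σ g δ ≠ 1 := fun e' => hd1 ((σ g).injective (e'.trans (map_one _).symm))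
        have hsd0 : σ g δ ≠ 0 := by simpa using hd0
        have only : ∀ T, C T = σ g δ → T = {0} := by
          intro T hT'
          rcases cases T with e' | ⟨hT'', -⟩ | ⟨-, e'⟩ | ⟨-, e'⟩
          · exact absurd (hT'.symm.trans e') hsd0
          · exact hT''
          · exact absurd (hT'.symm.trans e') hsd1
          · exact absurd (hT'.symm.trans e') hne
        have := hinj ((h g).injective (a₁ := ind r {2}) (a₂ := ind r {0, 1})
          (by rw [hT2, hT3, only T2 hC2, only T3 hC3]))
        exact absurd this (by decide)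
    have hs := hfix _ hγ
    rw [hs] at hC0 hC1 hC2
    have e0 : T0 = {0} := by
      rcases cases T0 with e | ⟨hT, -⟩ | ⟨-, e⟩ | ⟨-, e⟩
      · exact absurd (hC0.symm.trans e) h0
      · exact hT
      · exact absurd (hC0.symm.trans e) h1
      · exact absurd (hC0.symm.trans e).symm hdg
    have e1 : T1 = {1} := by
      rcases cases T1 with e | ⟨-, e⟩ | ⟨hT, -⟩ | ⟨-, e⟩
      · exact absurd (hC1.symm.trans e) one_ne_zero
      · exact absurd (hC1.symm.trans e).symm h1
      · exact hT
      · exact absurd (hC1.symm.trans e).symm hd1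
    have e01 : h g (ind r {0, 1}) = ind r {0, 1} := by
      rw [ind_eq_sum, Finset.sum_pair (by decide), map_add, ← ind_singleton, ← ind_singleton,
        hT0, hT1, e0, e1]
    have e2 : T2 = {2} := by
      rcases cases T2 with e | ⟨-, e⟩ | ⟨-, e⟩ | ⟨hT, -⟩
      · exact absurd (hC2.symm.trans e) hd0
      · exact absurd (hC2.symm.trans e) hdg
      · exact absurd (hC2.symm.trans e) hd1
      · rcases hT with hT | hT
        · exact hT
        · have := hinj ((h g).injective (a₁ := ind r {2}) (a₂ := ind r {0, 1})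
            (by rw [hT2, hT, e01]))
          exact absurd this (by decide)
    refine ⟨eq_id_of_fix hr _ fun i => ?_, hs⟩
    fin_cases i
    · rw [e0] at hT0; exact hT0
    · rw [e1] at hT1; exact hT1
    · rw [e2] at hT2; exact hT2
  · refine ⟨ind r {0, 2}, ind_ne_zero hr ⟨0, by simp⟩, ?_⟩
    rw [hc]
    simp only [C]
    rw [if_neg (by decide), if_neg (by decide), if_neg (by decide)]

/-- The asymmetric family of index sets. -/
def fam (m : ℕ) : Set (Finset (Fin m)) :=
  {S | (∀ i : Fin m, i ∈ S ↔ (i.val = 1 ∨ i.val = 2)) ∨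
    (∀ i : Fin m, i ∈ S ↔ (i.val = 2 ∨ i.val = 3)) ∨
    ∃ j : Fin m, 2 ≤ j.val ∧ ∀ i : Fin m, i ∈ S ↔ i.val ≤ j.val}

theorem fam_asymm (hm : 4 ≤ m) (π : Equiv.Perm (Fin m))
    (hπ : ∀ S ∈ fam m, S.map π.toEmbedding ∈ fam m) : π = 1 := by
  classical
  have hcard : ∀ j : Fin m, (Finset.univ.filter fun i : Fin m => i.val ≤ j.val).card = j.val + 1 := by
    intro j
    rw [show (Finset.univ.filter fun i : Fin m => i.val ≤ j.val) = Finset.Iic j by
      ext i; simp only [Finset.mem_filter, Finset.mem_univ, true_and, Finset.mem_Iic, Fin.le_def], Fin.card_Iic]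
  have hhigh : ∀ i : Fin m, 3 ≤ i.val → π i = i := by
    have hpre : ∀ j : Fin m, 2 ≤ j.val → ∀ i, (π i).val ≤ j.val ↔ i.val ≤ j.val := by
      intro j hj i
      let S := Finset.univ.filter fun i : Fin m => i.val ≤ j.val
      have hS : S ∈ fam m := Or.inr (Or.inr ⟨j, hj, by simp [S]⟩)
      have hc : (S.map π.toEmbedding).card = j.val + 1 := by rw [Finset.card_map]; exact hcard j
      have hpair : ∀ (a b : ℕ), (∀ i : Fin m, i ∈ S.map π.toEmbedding ↔ (i.val = a ∨ i.val = b)) →
          False := by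
        intro a b hab
        have hle : ((S.map π.toEmbedding).map Fin.valEmbedding).card ≤ ({a, b} : Finset ℕ).card := by
          refine Finset.card_le_card ?_
          intro x hx
          obtain ⟨i, hi, rfl⟩ := Finset.mem_map.mp hx
          simpa using (hab i).mp hi
        rw [Finset.card_map, hc] at hle
        have := hle.trans Finset.card_le_two
        omega
      rcases hπ S hS with hh | hh | ⟨j', -, hh⟩
      · exact (hpair 1 2 hh).elim
      · exact (hpair 2 3 hh).elim
      have hj' : j' = j := by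
        have e : S.map π.toEmbedding = Finset.univ.filter fun i : Fin m => i.val ≤ j'.val := by
          ext i; simpa using hh i
        rw [e, hcard] at hc
        exact Fin.ext (by omega)
      rw [← hj', ← hh (π i), Finset.mem_map_equiv, Equiv.symm_apply_apply, hj']
      simp [S]
    intro i hi
    apply Fin.ext
    have h1 := (hpre i (by omega) i).mpr le_rfl
    have h2 : ¬ (π i).val ≤ i.val - 1 := by
      intro hle
      have := (hpre ⟨i.val - 1, by omega⟩ (by simp; omega) i).mp hle
      simp at this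
      omega
    omega
  have hlow : ∀ i : Fin m, i.val ≤ 2 → (π i).val ≤ 2 := by
    intro i hi
    by_contra hgt
    have := π.injective (hhigh (π i) (by omega))
    rw [this] at hgt
    omega
  let A : Finset (Fin m) := {⟨1, by omega⟩, ⟨2, by omega⟩}
  let B : Finset (Fin m) := {⟨2, by omega⟩, ⟨3, by omega⟩}
  have hmemA : ∀ i : Fin m, i ∈ A ↔ (i.val = 1 ∨ i.val = 2) := by simp [A, Fin.ext_iff]
  have hmemB : ∀ i : Fin m, i ∈ B ↔ (i.val = 2 ∨ i.val = 3) := by simp [B, Fin.ext_iff]
  have h3 : π ⟨3, by omega⟩ = ⟨3, by omega⟩ := hhigh _ (by simp)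
  have himg : ∀ (S : Finset (Fin m)) (i : Fin m), π i ∈ S.map π.toEmbedding ↔ i ∈ S := by
    intro S i; rw [Finset.mem_map_equiv, Equiv.symm_apply_apply]
  have h3B : (⟨3, by omega⟩ : Fin m) ∈ B.map π.toEmbedding := by
    rw [← h3, himg]; simp [B]
  have h2e : (π ⟨2, by omega⟩).val = 2 := by
    have h2B : π ⟨2, by omega⟩ ∈ B.map π.toEmbedding := by rw [himg]; simp [B]
    rcases hπ B (Or.inr (Or.inl hmemB)) with hh | hh | ⟨j, hj, hh⟩
    · have := (hh _).mp h3B; simp at this
    · rcases (hh _).mp h2B with e | e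
      · exact e
      · have := hlow ⟨2, by omega⟩ (by simp); omega
    · have h3j := (hh _).mp h3B
      simp at h3j
      have h4 : ({⟨0, by omega⟩, ⟨1, by omega⟩, ⟨2, by omega⟩} : Finset (Fin m)) ⊆
          B.map π.toEmbedding := by
        intro i hi
        simp [Fin.ext_iff] at hi
        exact (hh i).mpr (by omega)
      have := Finset.card_le_card h4
      rw [Finset.card_map] at this
      simp [B, Fin.ext_iff] at this
  have h1e : (π ⟨1, by omega⟩).val = 1 := by
    have h1A : π ⟨1, by omega⟩ ∈ A.map π.toEmbedding := by rw [himg]; simp [A]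
    have hne : (π ⟨1, by omega⟩).val ≠ 2 := by
      intro e
      have := congrArg Fin.val (π.injective (Fin.ext (e.trans h2e.symm)))
      simp at this
    have hl := hlow ⟨1, by omega⟩ (by simp)
    rcases hπ A (Or.inl hmemA) with hh | hh | ⟨j, hj, hh⟩
    · rcases (hh _).mp h1A with e | e
      · exact e
      · exact absurd e hne
    · rcases (hh _).mp h1A with e | e
      · exact absurd e hne
      · omega
    · have h4 : ({⟨0, by omega⟩, ⟨1, by omega⟩, ⟨2, by omega⟩} : Finset (Fin m)) ⊆
          A.map π.toEmbedding := by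
        intro i hi
        simp [Fin.ext_iff] at hi
        exact (hh i).mpr (by omega)
      have := Finset.card_le_card h4
      rw [Finset.card_map] at this
      simp [A, Fin.ext_iff] at this
  refine Equiv.ext fun i => Fin.ext ?_
  rw [Equiv.Perm.one_apply]
  by_cases hi : 3 ≤ i.val
  · rw [hhigh i hi]
  have hinjv : ∀ j : Fin m, (π i).val = (π j).val → i.val = j.val := fun j e =>
    congrArg Fin.val (π.injective (Fin.ext e))
  have hl := hlow i (by omega)
  rcases (by omega : i.val = 0 ∨ i.val = 1 ∨ i.val = 2) with e | e | e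
  · have n1 : (π i).val ≠ 1 := fun h' => by
      have := hinjv ⟨1, by omega⟩ (h'.trans h1e.symm); simp at this; omega
    have n2 : (π i).val ≠ 2 := fun h' => by
      have := hinjv ⟨2, by omega⟩ (h'.trans h2e.symm); simp at this; omega
    omega
  · rw [show i = ⟨1, by omega⟩ from Fin.ext e]; exact h1e
  · rw [show i = ⟨2, by omega⟩ from Fin.ext e]; exact h2e

theorem good_many (hm : 4 ≤ m) (hr : ∀ i, (r i).Prime) (hq : 3 ≤ Nat.card k)
    (h : K → (((i : Fin m) → ZMod (r i)) ≃+ ((i : Fin m) → ZMod (r i))))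
    (σ : K → (k ≃+* k)) : ∃ c, Good h σ c := by
  classical
  obtain ⟨γ, h0, h1, hfix⟩ := exists_field_gen k hq
  have hinj := ind_injective hr
  let C2 : Set ((i : Fin m) → ZMod (r i)) := Set.range fun i => ind r {i}
  let C1 : Set ((i : Fin m) → ZMod (r i)) := ind r '' fam m
  have hfam_ne : ∀ S ∈ fam m, S.Nonempty ∧ S.card ≠ 1 := by
    intro S hS
    have two_mem : ∀ a b : ℕ, a ≠ b → a < m → b < m →
        (∀ i : Fin m, i.val = a ∨ i.val = b → i ∈ S) → S.Nonempty ∧ S.card ≠ 1 := by
      intro a b hab ha hb hsub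
      have hA : (⟨a, ha⟩ : Fin m) ∈ S := hsub _ (Or.inl rfl)
      have hB : (⟨b, hb⟩ : Fin m) ∈ S := hsub _ (Or.inr rfl)
      refine ⟨⟨_, hA⟩, fun hc => hab ?_⟩
      exact congrArg Fin.val (Finset.card_le_one.mp hc.le _ hA _ hB)
    rcases hS with hh | hh | ⟨j, hj, hh⟩
    · exact two_mem 1 2 (by omega) (by omega) (by omega) fun i hi => (hh i).mpr hi
    · exact two_mem 2 3 (by omega) (by omega) (by omega) fun i hi => (hh i).mpr hi
    · exact two_mem 0 1 (by omega) (by omega) (by omega) fun i hi => (hh i).mpr (by omega)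
  refine ⟨two γ C2 C1, fun g hp => ?_, fun _ => ⟨ind r {⟨0, by omega⟩, ⟨1, by omega⟩},
    ind_ne_zero hr ⟨⟨0, by omega⟩, by simp⟩, ?_⟩⟩
  · obtain ⟨hs, hC, hC'⟩ := two_spec (C2 := C2) (C1 := C1) h0 h1 hfix
      (by rintro ⟨i, hi⟩; exact ind_ne_zero hr (Finset.singleton_nonempty i) hi)
      ⟨_, ⟨⟨0, by omega⟩, rfl⟩⟩
      (by rintro ⟨S, hS, e⟩; exact ind_ne_zero hr (hfam_ne S hS).1 e)
      (by
        rintro _ ⟨S, hS, rfl⟩ ⟨i, hi⟩
        exact (hfam_ne S hS).2 (by rw [← hinj hi, Finset.card_singleton]))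
      (σ g) (h g) hp
    choose p hp' using fun i => hC _ ⟨i, rfl⟩
    have hpinj : Function.Injective p := by
      intro i j e
      have h' : h g (ind r {i}) = h g (ind r {j}) := by rw [← hp' i, ← hp' j, e]
      simpa using hinj ((h g).injective h')
    let π : Equiv.Perm (Fin m) := Equiv.ofBijective p hpinj.bijective_of_finite
    have hmap : ∀ S : Finset (Fin m), h g (ind r S) = ind r (S.map π.toEmbedding) := by
      intro S
      rw [ind_eq_sum, ind_eq_sum, map_sum, Finset.sum_map]
      refine Finset.sum_congr rfl fun i _ => ?_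
      rw [← ind_singleton, ← ind_singleton]
      exact (hp' i).symm
    have hπ : π = 1 := fam_asymm hm π fun S hS => by
      obtain ⟨T, hT, e⟩ := hC' (ind r S) ⟨S, hS, rfl⟩
      rw [hmap] at e
      exact hinj e ▸ hT
    refine ⟨eq_id_of_fix hr _ fun i => ?_, hs⟩
    rw [hmap, hπ]
    simp
  · have hn2 : ind r {(⟨0, by omega⟩ : Fin m), ⟨1, by omega⟩} ∉ C2 := by
      rintro ⟨i, hi⟩
      have := congrArg Finset.card (hinj hi)
      simp [Fin.ext_iff] at this
    have hn1 : ind r {(⟨0, by omega⟩ : Fin m), ⟨1, by omega⟩} ∉ C1 := by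
      rintro ⟨S, hS, e⟩
      rw [hinj e] at hS
      rcases hS with hh | hh | ⟨j, hj, hh⟩
      · have := (hh ⟨0, by omega⟩).mp (by simp); simp at this
      · have := (hh ⟨0, by omega⟩).mp (by simp); simp at this
      · have := (hh ⟨2, by omega⟩).mpr (by simpa using hj); simp [Fin.ext_iff] at this
    simp only [two]
    rw [if_neg hn2, if_neg hn1]

/-- The colouring lemma. -/
theorem exists_good [Group K] (hK : Group.IsSolvable K) (hm : 1 ≤ m) (hr : ∀ i, (r i).Prime)
    (hdvd : ∀ i, r i ∣ Nat.card k - 1)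
    (h : K → (((i : Fin m) → ZMod (r i)) ≃+ ((i : Fin m) → ZMod (r i))))
    (hmul : ∀ a b x, h (a * b) x = h a (h b x))
    (σ : K → (k ≃+* k)) : ∃ c, Good h σ c := by
  classical
  have hq : 3 ≤ Nat.card k := by
    have h2 := (hr ⟨0, hm⟩).two_le
    have hk1 : 1 < Nat.card k := Finite.one_lt_card
    have := Nat.le_of_dvd (by omega) (hdvd ⟨0, hm⟩)
    omega
  rcases (by omega : m = 1 ∨ m = 2 ∨ m = 3 ∨ 4 ≤ m) with rfl | rfl | rfl | h4
  · exact good_one hr hdvd hq h σ
  · exact good_two hr hq h σ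
  · by_cases hq4 : 4 ≤ Nat.card k
    · exact good_three hr hdvd hq4 h σ
    have hk : Nat.card k = 3 := by omega
    have hr2 : r = fun _ => 2 := funext fun i => by
      have := hdvd i
      rw [hk] at this
      exact (Nat.prime_dvd_prime_iff_eq (hr i) Nat.prime_two).mp this
    subst hr2
    have h1 : ∀ x, h 1 x = x := fun x => by
      have := hmul 1 1 x
      rw [one_mul] at this
      exact ((h 1).injective this.symm)
    let φ : K →* Equiv.Perm ((i : Fin 3) → ZMod 2) :=
      { toFun := fun g => (h g).toEquiv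
        map_one' := Equiv.ext h1
        map_mul' := fun a b => Equiv.ext fun x => hmul a b x }
    obtain ⟨c, hc, a, ha, hca⟩ := Fano.exists_colour hK φ fun g v w => map_add (h g) v w
    let val : Fin 3 → k := fun i => (i.val : k)
    have hval : Function.Injective val := by
      haveI : Fintype k := Fintype.ofFinite k
      have h3 : (3 : k) = 0 := by
        have := FiniteField.cast_card_eq_zero k
        rw [← Nat.card_eq_fintype_card, hk] at this
        exact_mod_cast this
      intro i j e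
      have h10 : (1 : k) ≠ 0 := one_ne_zero
      have h20 : (2 : k) ≠ 0 := fun e' => h10 (by linear_combination h3 - e')
      have h21 : (2 : k) ≠ 1 := fun e' => h10 (by linear_combination e')
      fin_cases i <;> fin_cases j <;> simp_all [val, eq_comm]
    refine ⟨fun x => val (c x), fun g hp => ?_, fun _ => ⟨a, ha, by simp [val, hca]⟩⟩
    have hs := prime_field_auto (by rw [hk]; norm_num) (σ g)
    refine ⟨hc g fun x hx => ?_, hs⟩
    have := hp x hx
    rw [hs] at this
    exact hval this.symm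
  · exact good_many h4 hr hq h σ

end

end Cfsg.Agent.BaseSize.Colour
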