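import Cfsg.Agent.BaseSize.PermColour

/-!
# Systems of imprimitivity as systems of projections; the imprimitive step
-/

set_option autoImplicit false
set_option linter.style.haveILetI false
set_option linter.unusedSectionVars false

open Finset

namespace Cfsg.Agent.BaseSize

variable {V : Type} [AddCommGroup V] [Finite V]

/-- An invariant system of orthogonal non-zero projections. -/
structure Decomp (G : Subgroup (AddMonoid.End V)ˣ) (ι : Type) [Fintype ι] where
  p : ι → AddMonoid.End V
  total : ∑ i, p i = 1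
  orth : ∀ i j, i ≠ j → p i * p j = 0
  nonzero : ∀ i, p i ≠ 0
  perm : ∀ g ∈ G, ∀ i, ∃ j, (g : AddMonoid.End V) * p i = p j * (g : AddMonoid.End V)

/-- No system of imprimitivity. -/
def NoDecomp (G : Subgroup (AddMonoid.End V)ˣ) : Prop :=
  ∀ n, 2 ≤ n → IsEmpty (Decomp G (Fin n))

namespace Decomp

variable {G : Subgroup (AddMonoid.End V)ˣ} {ι : Type} [Fintype ι] (d : Decomp G ι)

theorem idem (i : ι) : d.p i * d.p i = d.p i := by
  calc d.p i * d.p i = d.p i * ∑ j, d.p j := by
        rw [Finset.mul_sum, Finset.sum_eq_single i (fun j _ hj => d.orth i j (Ne.symm hj))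
          (fun h => absurd (Finset.mem_univ i) h)]
    _ = d.p i := by rw [d.total, mul_one]

theorem p_injective : Function.Injective d.p := by
  intro i j h
  by_contra hne
  have := d.orth i j hne
  rw [← h, d.idem] at this
  exact d.nonzero i this

/-- Reindexing. -/
def reindex {κ : Type} [Fintype κ] (e : κ ≃ ι) : Decomp G κ where
  p := d.p ∘ e
  total := by rw [← d.total]; exact Fintype.sum_equiv e _ _ fun _ => rfl
  orth := fun i j h => d.orth _ _ fun h' => h (e.injective h')
  nonzero := fun _ => d.nonzero _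
  perm := fun g hg i => by
    obtain ⟨j, hj⟩ := d.perm g hg (e i)
    exact ⟨e.symm j, by simpa using hj⟩

/-- Restriction to a smaller group. -/
def mono {H : Subgroup (AddMonoid.End V)ˣ} (h : H ≤ G) : Decomp H ι where
  p := d.p
  total := d.total
  orth := d.orth
  nonzero := d.nonzero
  perm := fun g hg => d.perm g (h hg)

noncomputable def act (g : G) (i : ι) : ι := (d.perm g g.2 i).choose

theorem act_spec (g : G) (i : ι) :
    ((g : (AddMonoid.End V)ˣ) : AddMonoid.End V) * d.p i =
      d.p (d.act g i) * ((g : (AddMonoid.End V)ˣ) : AddMonoid.End V) :=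
  (d.perm g g.2 i).choose_spec

theorem act_one (i : ι) : d.act 1 i = i := by
  have := d.act_spec 1 i
  simp only [OneMemClass.coe_one, Units.val_one, one_mul, mul_one] at this
  exact (d.p_injective this).symm

theorem act_mul (g h : G) (i : ι) : d.act (g * h) i = d.act g (d.act h i) := by
  refine d.p_injective ((Units.mul_left_inj ((g * h : G) : (AddMonoid.End V)ˣ)).mp ?_)
  rw [← d.act_spec, Subgroup.coe_mul, Units.val_mul, mul_assoc, d.act_spec h, ← mul_assoc,
    d.act_spec g, mul_assoc]

/-- The permutation representation. -/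
noncomputable def π : G →* Equiv.Perm ι where
  toFun g :=
    { toFun := d.act g
      invFun := d.act g⁻¹
      left_inv := fun i => by rw [← d.act_mul, inv_mul_cancel, d.act_one]
      right_inv := fun i => by rw [← d.act_mul, mul_inv_cancel, d.act_one] }
  map_one' := Equiv.ext d.act_one
  map_mul' g h := Equiv.ext (d.act_mul g h)

theorem π_apply (g : G) (i : ι) : d.π g i = d.act g i := rfl

theorem smul_p (g : G) (i : ι) (v : V) : g • (d.p i v) = d.p (d.act g i) (g • v) :=
  DFunLike.congr_fun (d.act_spec g i) v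

theorem p_p (i j : ι) (v : V) [Decidable (i = j)] :
    d.p i (d.p j v) = if i = j then d.p j v else 0 := by
  by_cases h : i = j
  · rw [if_pos h, h]; exact DFunLike.congr_fun (d.idem j) v
  · rw [if_neg h]; exact DFunLike.congr_fun (d.orth i j h) v

theorem apply_total (v : V) : ∑ i, d.p i v = v := by
  classical
  have h : ∀ s : Finset ι, (∑ i ∈ s, d.p i) v = ∑ i ∈ s, d.p i v := by
    intro s
    induction s using Finset.induction_on with
    | empty => rfl
    | @insert a s ha ih =>
      rw [Finset.sum_insert ha, Finset.sum_insert ha, ← ih]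
      rfl
  rw [← h, d.total]
  rfl

/-- An invariant idempotent of an irreducible group is trivial. -/
theorem _root_.Cfsg.Agent.BaseSize.idem_eq_one {G : Subgroup (AddMonoid.End V)ˣ} (hirr : Irr G)
    {e : AddMonoid.End V} (he : e * e = e) (h0 : e ≠ 0)
    (hinv : ∀ g ∈ G, (g : AddMonoid.End V) * e = e * (g : AddMonoid.End V)) : e = 1 := by
  rcases hirr (AddMonoidHom.range e) (by
    rintro g hg _ ⟨v, rfl⟩
    exact ⟨g • v, (DFunLike.congr_fun (hinv g hg) v).symm⟩) with h | h
  · exact absurd (DFunLike.ext _ _ fun v => (AddMonoidHom.range_eq_bot_iff.mp h) ▸ rfl) h0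
  · refine DFunLike.ext _ _ fun v => ?_
    obtain ⟨w, rfl⟩ := (h ▸ AddSubgroup.mem_top v : v ∈ AddMonoidHom.range e)
    exact DFunLike.congr_fun he w

theorem transitive (hirr : Irr G) [Nonempty ι] (i j : ι) : ∃ g : G, d.π g i = j := by
  classical
  let O : Finset ι := Finset.univ.filter fun l => ∃ g : G, d.π g i = l
  have hO : ∀ l, l ∈ O ↔ ∃ g : G, d.π g i = l := fun l => by simp [O]
  have he : (∑ l ∈ O, d.p l) * (∑ l ∈ O, d.p l) = ∑ l ∈ O, d.p l := by
    rw [Finset.sum_mul]
    refine Finset.sum_congr rfl fun l hl => ?_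
    rw [Finset.mul_sum, Finset.sum_eq_single_of_mem l hl (fun m _ hm => d.orth l m (Ne.symm hm)),
      d.idem]
  have hi : i ∈ O := (hO i).mpr ⟨1, by rw [map_one]; rfl⟩
  have hmul : ∀ l, d.p l * (∑ m ∈ O, d.p m) = if l ∈ O then d.p l else 0 := by
    intro l
    rw [Finset.mul_sum]
    by_cases hl : l ∈ O
    · rw [if_pos hl, Finset.sum_eq_single_of_mem l hl (fun m _ hm => d.orth l m (Ne.symm hm)),
        d.idem]
    · rw [if_neg hl, Finset.sum_eq_zero]
      intro m hm
      exact d.orth l m fun e => hl (e ▸ hm)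
  have h0 : ∑ l ∈ O, d.p l ≠ 0 := fun h => by
    have := hmul i
    rw [h, mul_zero, if_pos hi] at this
    exact d.nonzero i this.symm
  have h1 := idem_eq_one hirr he h0 (fun g hg => by
    rw [Finset.mul_sum, Finset.sum_mul]
    refine Finset.sum_equiv (d.π ⟨g, hg⟩) (fun l => ?_) fun l _ => d.act_spec ⟨g, hg⟩ l
    rw [hO, hO]
    constructor
    · rintro ⟨a, rfl⟩
      exact ⟨⟨g, hg⟩ * a, by rw [map_mul]; rfl⟩
    · rintro ⟨a, ha⟩
      exact ⟨⟨g, hg⟩⁻¹ * a, by rw [map_mul, map_inv]; exact Equiv.Perm.inv_eq_iff_eq.mpr ha⟩)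
  by_contra hcon
  have := hmul j
  rw [h1, mul_one, if_neg (fun hj => hcon ((hO j).mp hj))] at this
  exact d.nonzero j this

open Classical in
/-- Merging the orbits of a normal subgroup. -/
theorem exists_merge (N : Subgroup d.π.range) (hN : N.Normal) {i j : ι}
    (hij : ∀ n ∈ N, (n : Equiv.Perm ι) i ≠ j) {a b : ι} (hab : a ≠ b) {n : d.π.range}
    (hn : n ∈ N) (hnab : (n : Equiv.Perm ι) a = b) :
    ∃ m, 2 ≤ m ∧ m < Fintype.card ι ∧ Nonempty (Decomp G (Fin m)) := by
  let st : Setoid ι :=
    { r := fun x y => ∃ n ∈ N, (n : Equiv.Perm ι) x = y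
      iseqv :=
        { refl := fun x => ⟨1, N.one_mem, rfl⟩
          symm := fun {x y} ⟨n, hn, h⟩ => ⟨n⁻¹, N.inv_mem hn, by
            rw [← h, Subgroup.coe_inv, Equiv.Perm.coe_inv, Equiv.symm_apply_apply]⟩
          trans := fun {x y z} ⟨n, hn, h⟩ ⟨n', hn', h'⟩ => ⟨n' * n, N.mul_mem hn' hn, by
            rw [Subgroup.coe_mul, Equiv.Perm.mul_apply, h, h']⟩ } }
  haveI : Fintype (Quotient st) := Fintype.ofFinite _
  let cls : Quotient st → Finset ι := fun q => Finset.univ.filter fun l => Quotient.mk st l = q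
  have hcls : ∀ q l, l ∈ cls q ↔ Quotient.mk st l = q := fun q l => by simp [cls]
  have hprod : ∀ q l, d.p l * (∑ m ∈ cls q, d.p m) =
      if Quotient.mk st l = q then d.p l else 0 := by
    intro q l
    rw [Finset.mul_sum]
    by_cases hl : Quotient.mk st l = q
    · rw [if_pos hl, Finset.sum_eq_single_of_mem l ((hcls q l).mpr hl)
        (fun m _ hm => d.orth l m (Ne.symm hm)), d.idem]
    · rw [if_neg hl, Finset.sum_eq_zero]
      intro m hm
      exact d.orth l m fun e => hl (e ▸ (hcls q m).mp hm)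
  let D' : Decomp G (Quotient st) :=
    { p := fun q => ∑ l ∈ cls q, d.p l
      total := by rw [← d.total]; exact Finset.sum_fiberwise Finset.univ (Quotient.mk st) d.p
      orth := fun q q' hne => by
        rw [Finset.sum_mul, Finset.sum_eq_zero]
        intro l hl
        rw [hprod, if_neg]
        rw [(hcls q l).mp hl]
        exact hne
      nonzero := fun q h => by
        have := hprod q q.out
        rw [h, mul_zero, if_pos (Quotient.out_eq q)] at this
        exact d.nonzero _ this.symm
      perm := fun g hg q => by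
        refine ⟨Quotient.mk st (d.π ⟨g, hg⟩ q.out), ?_⟩
        rw [Finset.mul_sum, Finset.sum_mul]
        refine Finset.sum_equiv (d.π ⟨g, hg⟩) (fun l => ?_) fun l _ => d.act_spec ⟨g, hg⟩ l
        rw [hcls, hcls, ← Quotient.out_eq q, Quotient.eq, Quotient.eq]
        simp only [Quotient.out_eq]
        generalize hy : q.out = y
        obtain ⟨P, hP⟩ : ∃ P : d.π.range, (P : Equiv.Perm ι) = d.π ⟨g, hg⟩ :=
          ⟨d.π.rangeRestrict ⟨g, hg⟩, MonoidHom.coe_rangeRestrict _ _⟩
        rw [← hP]
        constructor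
        · rintro ⟨m, hm, e⟩
          refine ⟨P * m * P⁻¹, hN.conj_mem m hm _, ?_⟩
          rw [Subgroup.coe_mul, Subgroup.coe_mul, Subgroup.coe_inv, Equiv.Perm.mul_apply,
            Equiv.Perm.mul_apply, Equiv.Perm.coe_inv, Equiv.symm_apply_apply, e]
        · rintro ⟨m, hm, e⟩
          refine ⟨P⁻¹ * m * P⁻¹⁻¹, hN.conj_mem m hm _, ?_⟩
          rw [inv_inv, Subgroup.coe_mul, Subgroup.coe_mul, Subgroup.coe_inv, Equiv.Perm.mul_apply,
            Equiv.Perm.mul_apply, e, Equiv.Perm.coe_inv, Equiv.symm_apply_apply] }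
  refine ⟨Fintype.card (Quotient st), ?_, ?_, ⟨D'.reindex (Fintype.equivFin _).symm⟩⟩
  · exact Fintype.one_lt_card_iff.mpr ⟨Quotient.mk st i, Quotient.mk st j, fun e => by
      obtain ⟨m, hm, h⟩ := Quotient.exact e
      exact hij m hm h⟩
  · exact Fintype.card_lt_of_surjective_not_injective (Quotient.mk st) Quotient.mk_surjective
      fun hinj => hab (hinj (Quotient.sound ⟨n, hn, hnab⟩))

end Decomp

/-- The imprimitive step. -/
theorem five_of_decomp {G : Subgroup (AddMonoid.End V)ˣ} (hsol : Group.IsSolvable G)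
    (hirr : Irr G) {m : ℕ} (hm : 2 ≤ m) (d : Decomp G (Fin m))
    (hmin : ∀ m', 2 ≤ m' → m' < m → IsEmpty (Decomp G (Fin m')))
    (hIH : FiveBelow (Nat.card V)) : FiveBase G V := by
  classical
  haveI : Nonempty (Fin m) := ⟨⟨0, by omega⟩⟩
  haveI := hsol
  -- the count of blocks
  have hmV : m < Nat.card V := by
    have hx : ∀ i, ∃ v, d.p i v ≠ 0 := fun i => by
      by_contra h
      simp only [not_exists, not_not] at h
      exact d.nonzero i (DFunLike.ext _ _ h)
    choose x hx using hx
    have hinj : Function.Injective (fun o : Option (Fin m) => o.elim 0 fun i => d.p i (x i)) := by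
      rintro (_ | i) (_ | j) h
      · rfl
      · exact absurd h.symm (hx j)
      · exact absurd h (hx i)
      · simp only [Option.elim] at h
        by_contra hne
        have h' := congrArg (d.p i) h
        rw [d.p_p, if_pos rfl, d.p_p, if_neg (fun e => hne (by rw [e]))] at h'
        exact hx i h'
    have := Nat.card_le_card_of_injective _ hinj
    rw [Nat.card_eq_fintype_card, Fintype.card_option, Fintype.card_fin] at this
    omega
  -- the colourings
  have hcolour : FiveColour d.π.range := by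
    refine fiveColour d.π.range (Group.isSolvable_of_surjective d.π.rangeRestrict_surjective)
      (by rw [Nat.card_fin]; omega) (fun i j => ?_) (fun N hN hN1 i j => ?_)
      (b := Nat.card V) (by rwa [Nat.card_fin]) hIH
    · obtain ⟨g, hg⟩ := d.transitive hirr i j
      exact ⟨_, ⟨g, rfl⟩, hg⟩
    · by_contra hcon
      simp only [not_exists, not_and] at hcon
      obtain ⟨n, hn, hn1⟩ : ∃ n ∈ N, n ≠ 1 := by
        by_contra h
        simp only [not_exists, not_and, not_not] at h
        exact hN1 ((Subgroup.eq_bot_iff_forall N).mpr h)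
      obtain ⟨a, ha⟩ : ∃ a, (n : Equiv.Perm (Fin m)) a ≠ a := by
        by_contra h
        simp only [not_exists, not_not] at h
        exact hn1 (Subtype.ext (Equiv.ext h))
      obtain ⟨m', h2, hlt, ⟨d'⟩⟩ := d.exists_merge N hN hcon (Ne.symm ha) hn rfl
      rw [Fintype.card_fin] at hlt
      exact (hmin m' h2 hlt).false d'
  obtain ⟨C, hC⟩ := hcolour
  -- the block and its group
  let i0 : Fin m := ⟨0, by omega⟩
  let W : AddSubgroup V := AddMonoidHom.range (d.p i0)
  have hW : ∀ v, v ∈ W ↔ d.p i0 v = v := fun v => ⟨by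
    rintro ⟨w, rfl⟩; exact DFunLike.congr_fun (d.idem i0) w, fun h => ⟨v, h⟩⟩
  let H0 : Subgroup G :=
    { carrier := {g | d.act g i0 = i0}
      one_mem' := d.act_one i0
      mul_mem' := fun {a b} (ha : d.act a i0 = i0) (hb : d.act b i0 = i0) => by
        show d.act (a * b) i0 = i0
        rw [d.act_mul, hb, ha]
      inv_mem' := fun {a} (ha : d.act a i0 = i0) => by
        show d.act a⁻¹ i0 = i0
        conv_lhs => rw [← ha]
        rw [← d.act_mul, inv_mul_cancel, d.act_one] }
  have hinv : ∀ g : H0, ∀ v ∈ W, (g : G) • v ∈ W := fun g v hv => by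
    rw [hW] at hv ⊢
    have := d.smul_p g i0 v
    rw [hv, g.2] at this
    exact this.symm
  let f : H0 →* AddMonoid.End W :=
    { toFun := fun g =>
        ({ toFun := fun w => ⟨(g : G) • (w : V), hinv g w w.2⟩
           map_zero' := Subtype.ext (smul_zero _)
           map_add' := fun a b => Subtype.ext (smul_add _ _ _) } : W →+ W)
      map_one' := AddMonoidHom.ext fun w => Subtype.ext (one_smul G (w : V))
      map_mul' := fun a b => AddMonoidHom.ext fun w =>
        Subtype.ext (mul_smul (a : G) (b : G) (w : V)) }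
  let φ : H0 →* (AddMonoid.End W)ˣ := f.toHomUnits
  have hφ : ∀ (g : H0) (w : W), ((φ g • w : W) : V) = (g : G) • (w : V) := fun _ _ => rfl
  choose t ht using fun i => d.transitive hirr i0 i
  have ht' : ∀ i, d.act (t i) i0 = i := ht
  have hstab : ∀ (a : G) (i : Fin m), (t (d.act a i))⁻¹ * a * t i ∈ H0 := fun a i => by
    show d.act _ i0 = i0
    rw [d.act_mul, d.act_mul, ht']
    generalize d.act a i = b
    have h := congrArg (d.act (t b)⁻¹) (ht' b)
    rw [← d.act_mul, inv_mul_cancel, d.act_one] at h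
    exact h.symm
  have hproj : ∀ i l (w : W), d.p i (t l • (w : V)) = if i = l then t l • (w : V) else 0 := by
    intro i l w
    rw [← (hW w).mp w.2, d.smul_p, ht', d.p_p]
  haveI : Nontrivial W := by
    rw [AddSubgroup.nontrivial_iff_ne_bot]
    intro h
    exact d.nonzero i0 (DFunLike.ext _ _ fun v =>
      (AddSubgroup.eq_bot_iff_forall W).mp h _ ⟨v, rfl⟩)
  have hWV : Nat.card W < Nat.card V := by
    refine lt_of_le_of_ne (Nat.card_le_card_of_injective _ Subtype.val_injective) fun h => ?_
    have h1 : ((⟨1, by omega⟩ : Fin m)) ≠ i0 := fun e => by simpa [i0] using congrArg Fin.val e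
    refine d.nonzero ⟨1, by omega⟩ (DFunLike.ext _ _ fun v => ?_)
    have hv : v ∈ W := (AddSubgroup.eq_top_of_card_eq W h) ▸ AddSubgroup.mem_top v
    rw [← (hW v).mp hv, d.p_p, if_neg h1]
    rfl
  have hirrW : Irr φ.range := by
    intro M hM
    let M' : AddSubgroup V :=
      { carrier := {v | ∀ i, ∃ w ∈ M, (t i)⁻¹ • d.p i v = (w : V)}
        zero_mem' := fun i => ⟨0, M.zero_mem, by simp⟩
        add_mem' := fun {a b} ha hb i => by
          obtain ⟨x, hx, e⟩ := ha i
          obtain ⟨y, hy, e'⟩ := hb i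
          exact ⟨x + y, M.add_mem hx hy, by rw [map_add, smul_add, e, e']; rfl⟩
        neg_mem' := fun {a} ha i => by
          obtain ⟨x, hx, e⟩ := ha i
          exact ⟨-x, M.neg_mem hx, by rw [map_neg, smul_neg, e]; rfl⟩ }
    have hbig : ∀ w ∈ M, t i0 • (w : V) ∈ M' := fun w hw i => by
      by_cases hi : i = i0
      · exact ⟨w, hw, by rw [hproj, if_pos hi, hi, inv_smul_smul]⟩
      · exact ⟨0, M.zero_mem, by rw [hproj, if_neg hi, smul_zero]; rfl⟩
    rcases hirr M' (by
      intro g hg v hv j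
      obtain ⟨i, hi⟩ : ∃ i, d.act ⟨g, hg⟩ i = j := (d.π ⟨g, hg⟩).surjective j
      obtain ⟨w, hw, e⟩ := hv i
      subst hi
      refine ⟨φ ⟨_, hstab ⟨g, hg⟩ i⟩ • w, hM _ ⟨_, rfl⟩ _ hw, ?_⟩
      rw [hφ, ← e, ← mul_smul]
      show _ = ((t (d.act ⟨g, hg⟩ i))⁻¹ * ⟨g, hg⟩ * t i * (t i)⁻¹) • d.p i v
      rw [mul_inv_cancel_right, mul_smul, d.smul_p ⟨g, hg⟩ i v]
      rfl) with h | h
    · left
      refine (AddSubgroup.eq_bot_iff_forall M).mpr fun w hw => Subtype.ext ?_
      have := (AddSubgroup.eq_bot_iff_forall M').mp h _ (hbig w hw)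
      rw [smul_eq_iff_eq_inv_smul, smul_zero] at this
      exact this
    · right
      refine (AddSubgroup.eq_top_iff' M).mpr fun w => ?_
      obtain ⟨w', hw', e⟩ := (h ▸ AddSubgroup.mem_top (t i0 • (w : V)) : t i0 • (w : V) ∈ M') i0
      rw [hproj, if_pos rfl, inv_smul_smul] at e
      rwa [Subtype.ext e]
  obtain ⟨fb, hfb⟩ := hIH W φ.range hWV
    (Group.isSolvable_of_surjective φ.rangeRestrict_surjective) hirrW
  let T : (Fin 5 → W) → Fin 5 → V := fun sel l => ∑ i, t i • (sel (C l i) : V)
  let s1 : Fin 5 → W := fun l => (fb l).1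
  let s2 : Fin 5 → W := fun l => (fb l).2.1
  let s3 : Fin 5 → W := fun l => (fb l).2.2
  have hT : ∀ sel l i, d.p i (T sel l) = t i • (sel (C l i) : V) := fun sel l i => by
    rw [map_sum, Finset.sum_eq_single i (fun b _ hb => by rw [hproj, if_neg (Ne.symm hb)])
      (fun h => absurd (Finset.mem_univ i) h), hproj, if_pos rfl]
  refine ⟨fun l => (T s1 l, T s2 l, T s3 l), fun l l' a h => ?_⟩
  simp only [Prod.smul_mk, Prod.mk.injEq] at h
  have hcomp : ∀ sel, a • T sel l = T sel l' → ∀ i,
      φ ⟨_, hstab a i⟩ • sel (C l i) = sel (C l' (d.act a i)) := by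
    intro sel hs i
    have := congrArg (d.p (d.act a i)) hs
    rw [← d.smul_p, hT, hT] at this
    refine Subtype.ext ?_
    rw [hφ]
    simp only [mul_smul, this, inv_smul_smul]
  have hi : ∀ i, C l i = C l' (d.act a i) ∧ φ ⟨_, hstab a i⟩ = 1 := by
    intro i
    have e : (⟨φ ⟨_, hstab a i⟩, _, rfl⟩ : φ.range) • fb (C l i) = fb (C l' (d.act a i)) :=
      Prod.ext (hcomp s1 h.1 i) (Prod.ext (hcomp s2 h.2.1 i) (hcomp s3 h.2.2 i))
    exact ⟨(hfb _ _ _ e).1, congrArg Subtype.val (hfb _ _ _ e).2⟩
  obtain ⟨hll, hπ⟩ := hC l l' (d.π a) ⟨a, rfl⟩ fun i => (hi i).1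
  refine ⟨hll, Subtype.ext (Units.ext (DFunLike.ext _ _ fun v => ?_))⟩
  show a • v = v
  conv_lhs => rw [← d.apply_total v, Finset.smul_sum]
  conv_rhs => rw [← d.apply_total v]
  refine Finset.sum_congr rfl fun i _ => ?_
  have hai : d.act a i = i := by rw [← d.π_apply, hπ]; rfl
  have hw : (t i)⁻¹ • d.p i v ∈ W := by
    rw [hW]
    have := d.smul_p (t i) i0 ((t i)⁻¹ • d.p i v)
    rw [ht', smul_inv_smul, d.p_p, if_pos rfl, ← eq_inv_smul_iff] at this
    exact this
  have := congrArg Subtype.val (congrArg (fun u => u • (⟨_, hw⟩ : W)) (hi i).2)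
  simp only [one_smul, hφ, mul_smul, smul_inv_smul, hai, inv_smul_eq_iff] at this
  exact this

end Cfsg.Agent.BaseSize
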