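import Mathlib

/-!
# Colourings of the seven non-zero points of `F_2^3` against solvable groups

No colouring of the Fano plane with three colours has trivial automorphism group, but for every
solvable group acting there is one fixed by no non-trivial element of the acting group.
-/

set_option autoImplicit false

open scoped commutatorElement

namespace Cfsg.Agent.BaseSize.Fano

/-- The linear map of `F_2^3` (bit vectors) with the given images of the three unit vectors. -/
def lin (a b d x : Fin 8) : Fin 8 :=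
  ⟨((if x.val.testBit 0 then a.val else 0) ^^^ (if x.val.testBit 1 then b.val else 0) ^^^
      (if x.val.testBit 2 then d.val else 0)) % 8, Nat.mod_lt _ (by norm_num)⟩

/-- Three colourings of the bit vectors (the value at zero is irrelevant). -/
def col : Fin 3 → Fin 8 → Fin 3
  | 0 => ![0, 0, 0, 0, 0, 1, 1, 2]
  | 1 => ![0, 0, 0, 0, 0, 1, 2, 1]
  | 2 => ![0, 0, 0, 1, 1, 2, 0, 0]

/-- Their only non-trivial symmetries. -/
def sym : Fin 3 → Fin 8 → Fin 8
  | 0 => ![0, 2, 1, 3, 4, 6, 5, 7]
  | 1 => ![0, 3, 2, 1, 4, 7, 6, 5]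
  | 2 => ![0, 6, 2, 4, 3, 5, 1, 7]

theorem stab_col : ∀ (l : Fin 3) (a b d : Fin 8),
    (∀ x : Fin 8, x ≠ 0 → lin a b d x ≠ 0 ∧ col l (lin a b d x) = col l x) →
    (∀ x : Fin 8, lin a b d x = x) ∨ (∀ x : Fin 8, lin a b d x = sym l x) := by
  decide +kernel

theorem sym_rel : ∀ x : Fin 8,
    sym 2 x = sym 0 (sym 2 (sym 0 (sym 1 (sym 2 (sym 1
      (sym 0 (sym 2 (sym 0 (sym 1 (sym 2 (sym 1 x))))))))))) := by
  decide +kernel

theorem sym_ne : sym 2 1 ≠ 1 := by decide

theorem sym_invol : ∀ (l : Fin 3) (x : Fin 8), sym l (sym l x) = x := by decide +kernel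

theorem col_uses : ∀ (l : Fin 3), (∃ x : Fin 8, x ≠ 0 ∧ col l x = 0) := by decide +kernel

/-- The bit encoding of `(ZMod 2)^3`. -/
def enc (v : Fin 3 → ZMod 2) : Fin 8 :=
  ⟨((v 0).val + 2 * (v 1).val + 4 * (v 2).val) % 8, Nat.mod_lt _ (by norm_num)⟩

theorem enc_add : ∀ v w : Fin 3 → ZMod 2,
    (enc (v + w)).val = (enc v).val ^^^ (enc w).val := by decide +kernel

theorem enc_injective : Function.Injective enc := by
  have h : ∀ v w : Fin 3 → ZMod 2, enc v = enc w → v = w := by decide +kernel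
  exact fun v w hvw => h v w hvw

theorem enc_surjective : Function.Surjective enc := by
  have h : ∀ x : Fin 8, ∃ v : Fin 3 → ZMod 2, enc v = x := by decide +kernel
  exact h

theorem enc_lin (h : (Fin 3 → ZMod 2) ≃+ (Fin 3 → ZMod 2)) (v : Fin 3 → ZMod 2) :
    enc (h v) =
      lin (enc (h ![1, 0, 0])) (enc (h ![0, 1, 0])) (enc (h ![0, 0, 1])) (enc v) := by
  have hv : ∀ v : Fin 3 → ZMod 2, v = (if (enc v).val.testBit 0 then ![1, 0, 0] else 0) +
      ((if (enc v).val.testBit 1 then ![0, 1, 0] else 0) +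
        (if (enc v).val.testBit 2 then ![0, 0, 1] else 0)) := by decide +kernel
  have h0 : (enc (0 : Fin 3 → ZMod 2)).val = 0 := by decide
  conv_lhs => rw [hv v]
  apply Fin.ext
  rw [map_add, map_add, enc_add, enc_add]
  have hlt : ∀ a b d : Fin 8, (a.val ^^^ (b.val ^^^ d.val)) = (a.val ^^^ b.val ^^^ d.val) % 8 := by
    decide +kernel
  rw [hlt]
  simp only [lin]
  have happ : ∀ (t : Bool) (e : Fin 3 → ZMod 2),
      (enc (h (if t then e else 0))).val = if t then (enc (h e)).val else 0 := by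
    intro t e
    cases t
    · simpa using h0
    · simp
  rw [happ, happ, happ]

/-- For every solvable group acting linearly on `(ZMod 2)^3` some three-colouring of the non-zero
vectors is preserved only by elements acting trivially. -/
theorem exists_colour {K : Type*} [Group K] (hK : Group.IsSolvable K)
    (φ : K →* Equiv.Perm (Fin 3 → ZMod 2)) (hadd : ∀ g v w, φ g (v + w) = φ g v + φ g w) :
    ∃ c : (Fin 3 → ZMod 2) → Fin 3,
      (∀ g, (∀ a, a ≠ 0 → c (φ g a) = c a) → ∀ a, φ g a = a) ∧ ∃ a, a ≠ 0 ∧ c a = 0 := by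
  by_cases hgood : ∃ l : Fin 3, ∀ g, (∀ a, a ≠ 0 → col l (enc (φ g a)) = col l (enc a)) →
      ∀ a, φ g a = a
  · obtain ⟨l, hl⟩ := hgood
    refine ⟨fun a => col l (enc a), hl, ?_⟩
    obtain ⟨x, hx, hc⟩ := col_uses l
    obtain ⟨a, rfl⟩ := enc_surjective x
    refine ⟨a, ?_, hc⟩
    rintro rfl
    exact hx (by decide)
  exfalso
  simp only [not_exists, not_forall] at hgood
  have hsymm : ∀ l : Fin 3, ∃ g : K, ∀ a, enc (φ g a) = sym l (enc a) := by
    intro l
    obtain ⟨g, hg, a0, ha0⟩ := hgood l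
    let h : (Fin 3 → ZMod 2) ≃+ (Fin 3 → ZMod 2) :=
      { φ g with map_add' := hadd g }
    have henc : ∀ v, enc (φ g v) = lin (enc (h ![1, 0, 0])) (enc (h ![0, 1, 0]))
        (enc (h ![0, 0, 1])) (enc v) := fun v => enc_lin h v
    have hz : φ g 0 = 0 := h.map_zero
    have h0 : enc (0 : Fin 3 → ZMod 2) = 0 := by decide
    rcases stab_col l _ _ _ (fun x hx => by
        obtain ⟨a, rfl⟩ := enc_surjective x
        have ha : a ≠ 0 := fun e => hx (e ▸ h0)
        rw [← henc a]
        refine ⟨fun e => ha ?_, hg a ha⟩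
        rw [← h0] at e
        exact (φ g).injective ((enc_injective e).trans hz.symm)) with hid | hsym
    · exact absurd (enc_injective ((henc a0).trans (hid _))) ha0
    · exact ⟨g, fun a => (henc a).trans (hsym _)⟩
  choose t ht using hsymm
  have hinv : ∀ l, φ (t l) * φ (t l) = 1 := by
    intro l
    refine Equiv.ext fun a => enc_injective ?_
    rw [Equiv.Perm.mul_apply, ht, ht, sym_invol, Equiv.Perm.one_apply]
  have hinv' : ∀ l, (φ (t l))⁻¹ = φ (t l) := fun l => inv_eq_of_mul_eq_one_right (hinv l)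
  have hrel : φ (t 2) = ⁅φ (t 0) * φ (t 2) * (φ (t 0))⁻¹, φ (t 1) * φ (t 2) * (φ (t 1))⁻¹⁆ := by
    refine Equiv.ext fun a => enc_injective ?_
    simp only [commutatorElement_def, mul_inv_rev, inv_inv, hinv',
      Equiv.Perm.mul_apply, ht]
    exact sym_rel _
  have hmem : ∀ n, ∃ y ∈ derivedSeries φ.range n,
      (y : Equiv.Perm (Fin 3 → ZMod 2)) = φ (t 2) := by
    intro n
    induction n with
    | zero => exact ⟨φ.rangeRestrict (t 2), by simp, rfl⟩
    | succ n ih =>
      obtain ⟨y, hy, hye⟩ := ih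
      have hn : (derivedSeries φ.range n).Normal := derivedSeries_normal _ n
      refine ⟨⁅φ.rangeRestrict (t 0) * y * (φ.rangeRestrict (t 0))⁻¹,
        φ.rangeRestrict (t 1) * y * (φ.rangeRestrict (t 1))⁻¹⁆, ?_, ?_⟩
      · rw [derivedSeries_succ]
        exact Subgroup.commutator_mem_commutator (hn.conj_mem y hy _) (hn.conj_mem y hy _)
      · rw [hrel]
        simp only [commutatorElement_def, Subgroup.coe_mul, Subgroup.coe_inv,
          MonoidHom.coe_rangeRestrict, hye]
  have : Group.IsSolvable φ.range := by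
    haveI := hK
    exact solvable_of_surjective φ.rangeRestrict_surjective
  obtain ⟨n, hn⟩ := this.solvable
  obtain ⟨y, hy, hye⟩ := hmem n
  rw [hn, Subgroup.mem_bot] at hy
  subst hy
  refine sym_ne ?_
  obtain ⟨a, ha⟩ := enc_surjective 1
  have h2 := ht 2 a
  rw [← hye] at h2
  simp only [OneMemClass.coe_one, Equiv.Perm.one_apply] at h2
  rw [ha] at h2
  exact h2.symm

end Cfsg.Agent.BaseSize.Fano
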