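import Cfsg.Agent.BaseSize.Setup

/-!
# A standard frame of a normal subgroup with scalar commutators

Pairs `(x i, y i)` generating a symplectic basis, plus possibly a quaternion pair.
-/

set_option autoImplicit false
set_option linter.style.haveILetI false
set_option linter.unusedSectionVars false

open Finset

namespace Cfsg.Agent.BaseSize

/-- Data: `B` normal, with scalar commutators, maximal. -/
structure BData (k V G : Type*) [Field k] [AddCommGroup V] [Module k V] [Group G]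
    [DistribMulAction G V] extends Semi k V G where
  B : Subgroup G
  n : ℕ
  hn : Squarefree n
  isB : toSemi.IsB n B
  cent : ∀ g ∈ toSemi.lin, (∀ b ∈ B, g * b = b * g) → g ∈ toSemi.U

namespace BData

variable {k V G : Type*} [Field k] [AddCommGroup V] [Module k V] [Group G]
  [DistribMulAction G V] (D : BData k V G)

theorem normal : D.B.Normal := D.isB.1

/-- The scalars inside `B`. -/
def z : kˣ →* D.B :=
  D.sc.codRestrict D.B fun c => D.isB.2.1 ⟨c, rfl⟩

theorem z_val (c : kˣ) : (D.z c : G) = D.sc c := rfl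

theorem z_smul (c : kˣ) (v : V) : D.z c • v = (c : k) • v := D.sc_smul c v

theorem z_injective : Function.Injective D.z := fun _ _ e =>
  D.toSemi.sc_injective (congrArg Subtype.val e)

theorem lin_of_mem (b : D.B) : D.σ (b : G) = 1 := D.toSemi.mem_lin.mp (D.isB.2.2.1 b.2)

theorem smul_k (b : D.B) (c : k) (v : V) : b • (c • v) = c • (b • v) := by
  rw [Submonoid.smul_def, Submonoid.smul_def, D.smul_smul', D.lin_of_mem]
  rfl

theorem z_comm (c : kˣ) (b : D.B) : D.z c * b = b * D.z c :=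
  Subtype.ext (D.toSemi.sc_comm (D.lin_of_mem b) c).symm

theorem exists_com (x y : D.B) : ∃ c : kˣ, x * y = D.z c * (y * x) := by
  obtain ⟨c, hc⟩ := D.isB.2.2.2.1 x x.2 y y.2
  refine ⟨c, Subtype.ext ?_⟩
  rw [Subgroup.coe_mul, Subgroup.coe_mul, Subgroup.coe_mul, z_val, hc, commutatorElement_def]
  group

/-- The scalar commutator. -/
noncomputable def com (x y : D.B) : kˣ := (D.exists_com x y).choose

theorem com_spec (x y : D.B) : x * y = D.z (D.com x y) * (y * x) :=
  (D.exists_com x y).choose_spec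

theorem com_unique {x y : D.B} {c : kˣ} (h : x * y = D.z c * (y * x)) : D.com x y = c :=
  D.z_injective (mul_right_cancel ((D.com_spec x y).symm.trans h))

theorem com_mul_right (x y y' : D.B) : D.com x (y * y') = D.com x y * D.com x y' := by
  refine D.com_unique ?_
  calc x * (y * y') = D.z (D.com x y) * (y * (x * y')) := by
        rw [← mul_assoc x, D.com_spec x y]; simp only [mul_assoc]
    _ = D.z (D.com x y) * ((y * D.z (D.com x y')) * (y' * x)) := by
        rw [D.com_spec x y']; simp only [mul_assoc]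
    _ = D.z (D.com x y * D.com x y') * ((y * y') * x) := by
        rw [← D.z_comm, map_mul]; simp only [mul_assoc]

theorem com_swap (x y : D.B) : D.com y x = (D.com x y)⁻¹ := by
  refine D.com_unique ?_
  rw [D.com_spec x y, ← mul_assoc, ← map_mul, inv_mul_cancel, map_one, one_mul]

theorem com_mul_left (x x' y : D.B) : D.com (x * x') y = D.com x y * D.com x' y := by
  rw [D.com_swap y (x * x'), D.com_mul_right, mul_inv, ← D.com_swap, ← D.com_swap]

theorem com_one_left (y : D.B) : D.com 1 y = 1 :=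
  D.com_unique (by rw [map_one, one_mul, one_mul, mul_one])

theorem com_one_right (y : D.B) : D.com y 1 = 1 :=
  D.com_unique (by rw [map_one, one_mul, one_mul, mul_one])

theorem com_z (c : kˣ) (y : D.B) : D.com (D.z c) y = 1 :=
  D.com_unique (by rw [map_one, one_mul, D.z_comm])

theorem com_z' (c : kˣ) (y : D.B) : D.com y (D.z c) = 1 :=
  D.com_unique (by rw [map_one, one_mul, D.z_comm])

theorem com_eq_one_iff (x y : D.B) : D.com x y = 1 ↔ x * y = y * x := by
  refine ⟨fun h => ?_, fun h => D.com_unique (by rw [map_one, one_mul, h])⟩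
  rw [D.com_spec, h, map_one, one_mul]

theorem com_pow_left (x y : D.B) (t : ℕ) : D.com (x ^ t) y = D.com x y ^ t := by
  induction t with
  | zero => rw [pow_zero, pow_zero, com_one_left]
  | succ t ih => rw [pow_succ, com_mul_left, ih, pow_succ]

theorem com_pow_right (x y : D.B) (t : ℕ) : D.com x (y ^ t) = D.com x y ^ t := by
  rw [D.com_swap (y ^ t) x, D.com_pow_left, ← inv_pow, ← D.com_swap y x]

theorem com_pow_eq_one (x y : D.B) {r : ℕ} {c : kˣ} (h : x ^ r = D.z c) :
    D.com x y ^ r = 1 := by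
  rw [← D.com_pow_left, h, D.com_z]

theorem mul_pow' (x y : D.B) (t : ℕ) :
    (x * y) ^ t = D.z (D.com y x ^ t.choose 2) * (x ^ t * y ^ t) := by
  rw [map_pow]
  exact Semi.mul_pow_of_scalar_comm x y _ (fun h => D.z_comm _ h) (D.com_spec y x) t

theorem center_scalar {b : D.B} (h : ∀ c : D.B, b * c = c * b) : ∃ c, b = D.z c := by
  obtain ⟨c, hc⟩ := D.cent b (D.isB.2.2.1 b.2) fun a ha =>
    congrArg Subtype.val (h ⟨a, ha⟩)
  exact ⟨c, Subtype.ext hc.symm⟩

variable [Finite k] [Finite G]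

theorem prime_dvd_card_sub_one {r : ℕ} (hr : r.Prime) {c : kˣ} (hc : c ^ r = 1) (hc1 : c ≠ 1) :
    r ∣ Nat.card k - 1 := by
  have := orderOf_eq_prime (hp := ⟨hr⟩) hc hc1
  have h' := orderOf_dvd_natCard c
  rwa [this, Nat.card_units] at h'

theorem mem_powers_of_prime {r : ℕ} (hr : r.Prime) {ζ c : kˣ} (hζ : orderOf ζ = r)
    (hc : c ^ r = 1) : ∃ t : ℕ, c = ζ ^ t := by
  haveI : NeZero r := ⟨hr.ne_zero⟩
  have hprim : IsPrimitiveRoot (ζ : k) r := by
    rw [IsPrimitiveRoot.coe_units_iff, ← hζ]; exact IsPrimitiveRoot.orderOf ζ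
  obtain ⟨t, -, ht⟩ := hprim.eq_pow_of_pow_eq_one (ξ := (c : k)) (by
    rw [← Units.val_pow_eq_pow_val, hc, Units.val_one])
  exact ⟨t, Units.ext (by rw [Units.val_pow_eq_pow_val, ht])⟩

theorem pow_mul_pow_of_nonpower {r : ℕ} (hr : r.Prime) {a : kˣ} (ha : ∀ b : kˣ, b ^ r ≠ a)
    (a' : kˣ) : ∃ (t : ℕ) (e : kˣ), a' = a ^ t * e ^ r := by
  obtain ⟨g, hg⟩ := IsCyclic.exists_generator (α := kˣ)
  obtain ⟨α, rfl⟩ := Subgroup.mem_zpowers_iff.mp (hg a)
  obtain ⟨β, rfl⟩ := Subgroup.mem_zpowers_iff.mp (hg a')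
  have hna : ¬ ((r : ℤ) ∣ α) := by
    rintro ⟨t, ht⟩
    exact ha (g ^ t) (by rw [← zpow_natCast, ← zpow_mul, ht, mul_comm])
  obtain ⟨s, u, hsu⟩ := ((Nat.prime_iff_prime_int.mp hr).irreducible.coprime_iff_not_dvd).mpr hna
  -- s * r + u * α = 1
  refine ⟨((u * β) % (r : ℤ)).toNat,
    g ^ (s * β + (u * β) / (r : ℤ) * α), ?_⟩
  have h0 : 0 ≤ (u * β) % (r : ℤ) := Int.emod_nonneg _ (by exact_mod_cast hr.ne_zero)
  rw [← zpow_natCast (g ^ α), Int.toNat_of_nonneg h0, ← zpow_natCast (g ^ (_ : ℤ)), ← zpow_mul,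
    ← zpow_mul, ← zpow_add]
  congr 1
  have h2 := Int.mul_ediv_add_emod (u * β) (r : ℤ)
  linear_combination (-β) * hsu - α * h2

/-- Counting: a subgroup `H` of the elements with scalar `r`-th power is at least as big, modulo
scalars, as the index of its centraliser. -/
theorem counting {r : ℕ} (hr : r.Prime) (P : Subgroup D.B) (hP : ∀ x ∈ P, ∃ c, x ^ r = D.z c)
    (hzP : ∀ c, D.z c ∈ P) (T : Finset D.B) (hT : ∀ x ∈ T, x ∈ P) :
    Nat.card P * Nat.card D.z.range ≤
      Nat.card {x // x ∈ P ∧ ∀ t ∈ T, x * t = t * x} *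
        Nat.card (D.z.range ⊔ Subgroup.closure (T : Set D.B) : Subgroup D.B) := by
  classical
  induction T using Finset.induction_on with
  | empty =>
    refine Nat.mul_le_mul (Nat.card_le_card_of_injective (fun x : P => ⟨x.1, x.2, by simp⟩)
      (fun a b e => Subtype.ext (congrArg Subtype.val e :))) ?_
    rw [Finset.coe_empty, Subgroup.closure_empty, sup_bot_eq]
  | @insert x T hx ih =>
    have hxP := hT x (Finset.mem_insert_self x T)
    have ih := ih fun y hy => hT y (Finset.mem_insert_of_mem hy)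
    set H : Subgroup D.B := D.z.range ⊔ Subgroup.closure (T : Set D.B) with hH
    set H' : Subgroup D.B := D.z.range ⊔ Subgroup.closure ((insert x T : Finset D.B) : Set D.B)
      with hH'
    have hHH : H ≤ H' := sup_le_sup_left (Subgroup.closure_mono (by simp)) _
    by_cases hxH : x ∈ H
    · -- nothing changes
      refine le_trans ih (Nat.mul_le_mul ?_ (Nat.le_of_dvd Nat.card_pos
        (Subgroup.card_dvd_of_le hHH)))
      refine Nat.card_le_card_of_injective (fun y => ⟨y.1, y.2.1, fun t ht => ?_⟩)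
        (fun a b e => Subtype.ext (congrArg Subtype.val e :))
      rcases Finset.mem_insert.mp ht with rfl | ht
      · suffices H ≤ Subgroup.centralizer {(y.1 : D.B)} by
          exact Subgroup.mem_centralizer_singleton_iff.mp (this hxH) |>.symm
        refine sup_le ?_ ((Subgroup.closure_le _).mpr fun t ht => ?_)
        · rintro _ ⟨c, rfl⟩
          exact Subgroup.mem_centralizer_singleton_iff.mpr (D.z_comm c y.1)
        · exact Subgroup.mem_centralizer_singleton_iff.mpr (y.2.2 t ht).symm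
      · exact y.2.2 t ht
    have hle1 : r * Nat.card H ≤ Nat.card H' := by
      have hcl : ∀ i j : Fin r, i < j → ∀ a b : H, x ^ (i : ℕ) * a.1 ≠ x ^ (j : ℕ) * b.1 := by
        intro i j hij a b e
        have hd : x ^ ((j : ℕ) - i) ∈ H := by
          have : x ^ ((j : ℕ) - i) = a.1 * b.1⁻¹ := by
            rw [eq_mul_inv_iff_mul_eq]
            refine mul_left_cancel (a := x ^ (i : ℕ)) ?_
            rw [← mul_assoc, ← pow_add, show (i : ℕ) + ((j : ℕ) - i) = j by omega, e]
          rw [this]; exact H.mul_mem a.2 (H.inv_mem b.2)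
        obtain ⟨c, hc⟩ := hP x hxP
        have hr' : x ^ r ∈ H := hc ▸ Subgroup.mem_sup_left ⟨c, rfl⟩
        have hcop : Nat.Coprime ((j : ℕ) - i) r :=
          (hr.coprime_iff_not_dvd.mpr fun hd' => by
            have := Nat.le_of_dvd (by omega) hd'
            have := j.2
            omega).symm
        have : x ^ (Nat.gcd ((j : ℕ) - i) r) ∈ H := by
          rw [← zpow_natCast, Nat.gcd_eq_gcd_ab, zpow_add, zpow_mul, zpow_mul, zpow_natCast,
            zpow_natCast]
          exact H.mul_mem (H.zpow_mem hd _) (H.zpow_mem hr' _)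
        rw [hcop.gcd_eq_one, pow_one] at this
        exact hxH this
      let f : Fin r × H → H' := fun p => ⟨x ^ (p.1 : ℕ) * p.2.1, H'.mul_mem
        (H'.pow_mem (Subgroup.mem_sup_right (Subgroup.subset_closure (by simp))) _)
        (hHH p.2.2)⟩
      have := Nat.card_le_card_of_injective f (by
        rintro ⟨i, a⟩ ⟨j, b⟩ e
        have e : x ^ (i : ℕ) * a.1 = x ^ (j : ℕ) * b.1 := congrArg Subtype.val e
        rcases lt_trichotomy i j with h | h | h
        · exact absurd e (hcl i j h a b)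
        · subst h; exact Prod.ext rfl (Subtype.ext (mul_left_cancel e))
        · exact absurd e.symm (hcl j i h b a))
      rwa [Nat.card_prod, Nat.card_fin] at this
    have hle2 : Nat.card {y // y ∈ P ∧ ∀ t ∈ T, y * t = t * y} ≤
        r * Nat.card {y // y ∈ P ∧ ∀ t ∈ insert x T, y * t = t * y} := by
      obtain ⟨c0, hc0⟩ := hP x hxP
      let A := {y // y ∈ P ∧ ∀ t ∈ T, y * t = t * y}
      let μ := {c : kˣ // c ^ r = 1}
      let f : A → μ := fun y => ⟨D.com x y.1, D.com_pow_eq_one x y.1 hc0⟩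
      haveI : NeZero r := ⟨hr.ne_zero⟩
      have hμ : Nat.card μ ≤ r := by
        rw [← Nat.card_congr (Equiv.subtypeEquivRight (fun c => by
          rw [mem_rootsOfUnity]) : {c : kˣ // c ∈ rootsOfUnity r k} ≃ μ)]
        haveI : Fintype (rootsOfUnity r k) := Fintype.ofFinite _
        exact card_rootsOfUnity k r
      haveI : Fintype μ := Fintype.ofFinite _
      haveI : Fintype A := Fintype.ofFinite _
      have hfib : ∀ c : μ, Nat.card {y : A // f y = c} ≤
          Nat.card {y // y ∈ P ∧ ∀ t ∈ insert x T, y * t = t * y} := by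
        intro c
        by_cases hne : ∃ y : A, f y = c
        · obtain ⟨y0, hy0⟩ := hne
          refine Nat.card_le_card_of_injective (fun y => ⟨y0.1⁻¹ * y.1.1,
            P.mul_mem (P.inv_mem y0.2.1) y.1.2.1, fun t ht => ?_⟩) (fun a b e => ?_)
          · rcases Finset.mem_insert.mp ht with h | ht
            · rw [h]
              have hxy : D.com x y.1.1 = D.com x y0.1 :=
                congrArg Subtype.val (y.2.trans hy0.symm)
              have : D.com x (y0.1⁻¹ * y.1.1) = 1 := by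
                have h' : D.com x y0.1⁻¹ * D.com x y0.1 = 1 := by
                  rw [← com_mul_right, inv_mul_cancel, com_one_right]
                rw [com_mul_right, hxy, h']
              exact ((D.com_eq_one_iff _ _).mp this).symm
            · calc y0.1⁻¹ * y.1.1 * t = y0.1⁻¹ * (t * y.1.1) := by rw [mul_assoc, y.1.2.2 t ht]
                _ = y0.1⁻¹ * t * y.1.1 := (mul_assoc _ _ _).symm
                _ = t * y0.1⁻¹ * y.1.1 := by
                  rw [(Commute.inv_left (y0.2.2 t ht : Commute y0.1 t)).eq]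
                _ = t * (y0.1⁻¹ * y.1.1) := mul_assoc _ _ _
          · exact Subtype.ext (Subtype.ext (mul_left_cancel (congrArg Subtype.val e)))
        · haveI : IsEmpty {y : A // f y = c} := ⟨fun y => hne ⟨y.1, y.2⟩⟩
          simp
      calc Nat.card A = ∑ c : μ, Nat.card {y : A // f y = c} := by
            rw [← Nat.card_sigma, Nat.card_congr (Equiv.sigmaFiberEquiv f)]
        _ ≤ ∑ _c : μ, Nat.card {y // y ∈ P ∧ ∀ t ∈ insert x T, y * t = t * y} :=
            Finset.sum_le_sum fun c _ => hfib c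
        _ ≤ r * _ := by
            rw [Finset.sum_const, Finset.card_univ, ← Nat.card_eq_fintype_card, smul_eq_mul]
            exact Nat.mul_le_mul_right _ hμ
    calc Nat.card P * Nat.card D.z.range
        ≤ Nat.card {y // y ∈ P ∧ ∀ t ∈ T, y * t = t * y} * Nat.card H := ih
      _ ≤ (r * Nat.card {y // y ∈ P ∧ ∀ t ∈ insert x T, y * t = t * y}) * Nat.card H :=
          Nat.mul_le_mul_right _ hle2
      _ = Nat.card {y // y ∈ P ∧ ∀ t ∈ insert x T, y * t = t * y} * (r * Nat.card H) := by ring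
      _ ≤ _ := Nat.mul_le_mul_left _ hle1

/-- If `r` is odd or `-1` is a square, `r`-th powers that are scalar are powers of scalars. -/
theorem power_of_scalar_pow {r : ℕ} (hr : r.Prime) (hsq : r ≠ 2 ∨ ∃ e : k, e ^ 2 = -1)
    (x : D.B) {c : kˣ} (hx : x ^ r = D.z c) : ∃ a : kˣ, c = a ^ r := by
  classical
  by_contra hno
  simp only [not_exists] at hno
  have hcz : ∀ (u w : D.B) (a : kˣ), u ^ r = D.z a →
      ∃ b : kˣ, D.com w u ^ r.choose 2 = b ^ r := by
    intro u w a hu
    have hc1 : D.com w u ^ r = 1 := by rw [← D.com_pow_right, hu, D.com_z']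
    rcases eq_or_ne r 2 with h2 | h2
    · subst h2
      obtain ⟨e, he⟩ := hsq.resolve_left (by simp)
      rw [Nat.choose_self, pow_one]
      have hc : ((D.com w u : kˣ) : k) ^ 2 = 1 := by
        rw [← Units.val_pow_eq_pow_val, hc1, Units.val_one]
      rcases sq_eq_one_iff.mp hc with h | h
      · exact ⟨1, by rw [one_pow]; exact Units.ext h⟩
      · have he0 : e ≠ 0 := fun e0 => by simp [e0] at he
        exact ⟨Units.mk0 e he0, Units.ext (by rw [h, Units.val_pow_eq_pow_val, Units.val_mk0, he])⟩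
    · obtain ⟨t, ht⟩ : r ∣ r.choose 2 :=
        hr.dvd_choose_self (by norm_num) (by have := hr.two_le; omega)
      exact ⟨1, by rw [ht, pow_mul, hc1, one_pow, one_pow]⟩
  let P : Subgroup D.B :=
    { carrier := {u | ∃ a, u ^ r = D.z a}
      one_mem' := ⟨1, by rw [one_pow, map_one]⟩
      mul_mem' := by
        rintro u w ⟨a, hu⟩ ⟨b, hw⟩
        exact ⟨D.com w u ^ r.choose 2 * (a * b), by
          rw [mul_pow', hu, hw]; simp only [map_mul]⟩
      inv_mem' := by
        rintro u ⟨a, hu⟩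
        exact ⟨a⁻¹, by rw [inv_pow, hu, map_inv]⟩ }
  let K : Subgroup D.B :=
    { carrier := {u | ∃ a, u ^ r = D.z (a ^ r)}
      one_mem' := ⟨1, by rw [one_pow, one_pow, map_one]⟩
      mul_mem' := by
        rintro u w ⟨a, hu⟩ ⟨b, hw⟩
        obtain ⟨e, he⟩ := hcz u w _ hu
        exact ⟨e * (a * b), by rw [mul_pow', hu, hw, he]; simp only [map_mul, mul_pow]⟩
      inv_mem' := by
        rintro u ⟨a, hu⟩
        exact ⟨a⁻¹, by rw [inv_pow, hu, inv_pow, map_inv]⟩ }
  have hKP : K ≤ P := fun u ⟨a, hu⟩ => ⟨_, hu⟩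
  have hzK : ∀ a, D.z a ∈ K := fun a => ⟨a, by rw [map_pow]⟩
  have hxP : x ∈ P := ⟨c, hx⟩
  have hxK : x ∉ K := fun ⟨a, ha⟩ => hno a (D.z_injective (hx.symm.trans ha))
  -- the centraliser of `K` in `P` is abelian and normal in `G`
  let Y : Subgroup D.B := P ⊓ Subgroup.centralizer (K : Set D.B)
  have hYab : ∀ u ∈ Y, ∀ w ∈ Y, u * w = w * u := by
    intro u hu w hw
    by_cases huK : u ∈ K
    · exact Subgroup.mem_centralizer_iff.mp hw.2 u huK
    obtain ⟨a, ha⟩ := hu.1
    obtain ⟨b, hb⟩ := hw.1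
    obtain ⟨t, e, he⟩ := pow_mul_pow_of_nonpower hr (a := a)
      (fun b' hb' => huK ⟨b', by rw [ha, hb']⟩) b
    have hwK : (u ^ t)⁻¹ * w ∈ K := by
      obtain ⟨e', he'⟩ := hcz ((u ^ t)⁻¹) w ((a ^ t)⁻¹) (by
        rw [inv_pow, ← pow_mul, mul_comm, pow_mul, ha, ← map_pow, map_inv])
      refine ⟨e' * e, ?_⟩
      rw [mul_pow', inv_pow, ← pow_mul, mul_comm t r, pow_mul, ha, hb, he', he, ← map_pow,
        ← map_inv, ← map_mul, ← map_mul]
      congr 1
      rw [mul_pow]
      group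
    have h1 : Commute u ((u ^ t)⁻¹ * w) :=
      (Subgroup.mem_centralizer_iff.mp hu.2 _ hwK).symm
    have h2 : Commute u (u ^ t * ((u ^ t)⁻¹ * w)) := ((Commute.refl u).pow_right t).mul_right h1
    rw [mul_inv_cancel_left] at h2
    exact h2
  have hconj : ∀ (g : G) (u : D.B), g * (u : G) * g⁻¹ ∈ D.B := fun g u =>
    D.normal.conj_mem u u.2 g
  have hpowc : ∀ (g : G) (u : D.B) (a : kˣ), u ^ r = D.z a →
      (⟨g * u * g⁻¹, hconj g u⟩ : D.B) ^ r = D.z (Units.map (D.σ g).toMonoidHom a) := by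
    intro g u a ha
    refine Subtype.ext ?_
    rw [SubmonoidClass.coe_pow, conj_pow, ← SubmonoidClass.coe_pow, ha, z_val, z_val]
    exact D.toSemi.conj_sc g a
  have hYn : (Y.map D.B.subtype).Normal := by
    refine ⟨?_⟩
    rintro _ ⟨u, ⟨⟨a, ha⟩, hu⟩, rfl⟩ g
    refine ⟨⟨g * u * g⁻¹, hconj g u⟩, ⟨⟨_, hpowc g u a ha⟩, ?_⟩, rfl⟩
    refine Subgroup.mem_centralizer_iff.mpr fun w hw => ?_
    obtain ⟨b, hb⟩ := hw
    have hw' : (⟨g⁻¹ * w * g⁻¹⁻¹, hconj g⁻¹ w⟩ : D.B) ∈ K := by
      refine ⟨Units.map (D.σ g⁻¹).toMonoidHom b, ?_⟩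
      rw [hpowc g⁻¹ w _ hb, map_pow]
    have h := congrArg Subtype.val (Subgroup.mem_centralizer_iff.mp hu _ hw')
    simp only [Subgroup.coe_mul, inv_inv] at h
    refine Subtype.ext ?_
    simp only [Subgroup.coe_mul]
    calc (w : G) * (g * u * g⁻¹) = g * ((g⁻¹ * w * g) * u) * g⁻¹ := by group
      _ = g * (u * (g⁻¹ * w * g)) * g⁻¹ := by rw [h]
      _ = g * u * g⁻¹ * w := by group
  have hY : ∀ u ∈ Y, ∃ a, u = D.z a := by
    intro u hu
    obtain ⟨a, ha⟩ := D.max_abelian (Y.map D.B.subtype) hYn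
      (by
        rintro _ ⟨u, hu, rfl⟩ _ ⟨w, hw, rfl⟩
        exact congrArg Subtype.val (hYab u hu w hw))
      (fun a => ⟨D.z a, ⟨hKP (hzK a), Subgroup.mem_centralizer_iff.mpr fun w _ =>
        (D.z_comm a w).symm⟩, rfl⟩) _ ⟨u, hu, rfl⟩
    exact ⟨a, Subtype.ext ha.symm⟩
  -- counting
  haveI : Fintype K := Fintype.ofFinite _
  let T : Finset D.B := (Finset.univ : Finset K).map ⟨Subtype.val, Subtype.val_injective⟩
  have hTmem : ∀ u, u ∈ T ↔ u ∈ K := fun u => by simp [T]
  have hcount := D.counting hr P (fun u hu => hu) (fun a => hKP (hzK a)) T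
    (fun u hu => hKP ((hTmem u).mp hu))
  have hTK : (D.z.range ⊔ Subgroup.closure (T : Set D.B) : Subgroup D.B) ≤ K :=
    sup_le (by rintro _ ⟨a, rfl⟩; exact hzK a)
      ((Subgroup.closure_le _).mpr fun u hu => (hTmem u).mp hu)
  have hYle : Nat.card {u // u ∈ P ∧ ∀ t ∈ T, u * t = t * u} ≤ Nat.card D.z.range := by
    refine Nat.card_le_card_of_injective (fun u => ⟨u.1, ?_⟩)
      (fun a b e => Subtype.ext (congrArg Subtype.val e :))
    obtain ⟨a, ha⟩ := hY u.1 ⟨u.2.1, Subgroup.mem_centralizer_iff.mpr fun t ht =>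
      (u.2.2 t ((hTmem t).mpr ht)).symm⟩
    exact ⟨a, ha.symm⟩
  have hcard : Nat.card P ≤ Nat.card K := by
    have h1 := hcount.trans (Nat.mul_le_mul hYle
      (Nat.le_of_dvd Nat.card_pos (Subgroup.card_dvd_of_le hTK)))
    rw [mul_comm (Nat.card D.z.range)] at h1
    exact Nat.le_of_mul_le_mul_right h1 Nat.card_pos
  exact hxK (Subgroup.eq_of_le_of_card_ge hKP hcard ▸ hxP)

/-- Pairs of elements of prime order with scalar commutator, pairwise commuting otherwise. -/
structure Frame (m : ℕ) where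
  r : Fin m → ℕ
  hr : ∀ i, (r i).Prime
  x : Fin m → D.B
  y : Fin m → D.B
  ζ : Fin m → kˣ
  hζ : ∀ i, orderOf (ζ i) = r i
  hx : ∀ i, x i ^ r i = 1
  hy : ∀ i, y i ^ r i = 1
  hxy : ∀ i, D.com (x i) (y i) = ζ i
  hxx : ∀ i j, D.com (x i) (x j) = 1
  hyy : ∀ i j, D.com (y i) (y j) = 1
  hoff : ∀ i j, i ≠ j → D.com (x i) (y j) = 1

variable {D}

/-- The elements commuting with the whole frame. -/
def Frame.C {m : ℕ} (F : D.Frame m) : Subgroup D.B :=
  Subgroup.centralizer (Set.range F.x ∪ Set.range F.y)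

theorem Frame.mem_C {m : ℕ} (F : D.Frame m) {b : D.B} :
    b ∈ F.C ↔ ∀ i, D.com (F.x i) b = 1 ∧ D.com (F.y i) b = 1 := by
  rw [Frame.C, Subgroup.mem_centralizer_iff]
  constructor
  · exact fun h i => ⟨(D.com_eq_one_iff _ _).mpr (h _ (Or.inl ⟨i, rfl⟩)),
      (D.com_eq_one_iff _ _).mpr (h _ (Or.inr ⟨i, rfl⟩))⟩
  · rintro h _ (⟨i, rfl⟩ | ⟨i, rfl⟩)
    · exact (D.com_eq_one_iff _ _).mp (h i).1
    · exact (D.com_eq_one_iff _ _).mp (h i).2

theorem Frame.le_card {m : ℕ} (F : D.Frame m) : m ≤ Nat.card D.B := by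
  have hinj : Function.Injective F.x := by
    intro i j e
    by_contra hne
    have h := F.hoff j i (Ne.symm hne)
    rw [← e, F.hxy] at h
    have := F.hζ i
    rw [h, orderOf_one] at this
    exact (F.hr i).one_lt.ne this
  simpa using Nat.card_le_card_of_injective F.x hinj

theorem Frame.extend {m : ℕ} (F : D.Frame m) {p : ℕ} (hp : p.Prime) {a b : D.B} (ha : a ∈ F.C)
    (hb : b ∈ F.C) (hap : a ^ p = 1) (hbp : b ^ p = 1) (hab : D.com a b ≠ 1) :
    Nonempty (D.Frame (m + 1)) := by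
  have ha' := F.mem_C.mp ha
  have hb' := F.mem_C.mp hb
  have hc : D.com a b ^ p = 1 := by rw [← D.com_pow_left, hap, D.com_one_left]
  refine ⟨{
    r := Fin.cons p F.r
    hr := Fin.cases hp F.hr
    x := Fin.cons a F.x
    y := Fin.cons b F.y
    ζ := Fin.cons (D.com a b) F.ζ
    hζ := Fin.cases (orderOf_eq_prime (hp := ⟨hp⟩) hc hab) F.hζ
    hx := Fin.cases hap F.hx
    hy := Fin.cases hbp F.hy
    hxy := Fin.cases rfl F.hxy
    hxx := Fin.cases (Fin.cases ((D.com_eq_one_iff _ _).mpr rfl)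
      fun j => by simp only [Fin.cons_zero, Fin.cons_succ]; rw [D.com_swap, (ha' j).1, inv_one])
      fun i => Fin.cases (ha' i).1 (F.hxx i)
    hyy := Fin.cases (Fin.cases ((D.com_eq_one_iff _ _).mpr rfl)
      fun j => by simp only [Fin.cons_zero, Fin.cons_succ]; rw [D.com_swap, (hb' j).2, inv_one])
      fun i => Fin.cases (hb' i).2 (F.hyy i)
    hoff := Fin.cases (Fin.cases (fun h => absurd rfl h)
      fun j _ => by simp only [Fin.cons_zero, Fin.cons_succ]; rw [D.com_swap, (ha' j).2, inv_one])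
      fun i => Fin.cases (fun _ => (hb' i).1) fun j h => F.hoff i j (fun e => h (congrArg _ e)) }⟩

theorem exists_max_frame (D : BData k V G) :
    ∃ (m : ℕ) (_ : D.Frame m), IsEmpty (D.Frame (m + 1)) := by
  classical
  have h0 : Nonempty (D.Frame 0) := ⟨{
    r := Fin.elim0, hr := fun i => i.elim0, x := Fin.elim0, y := Fin.elim0, ζ := Fin.elim0
    hζ := fun i => i.elim0, hx := fun i => i.elim0, hy := fun i => i.elim0
    hxy := fun i => i.elim0, hxx := fun i => i.elim0, hyy := fun i => i.elim0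
    hoff := fun i => i.elim0 }⟩
  set m := Nat.findGreatest (fun m => Nonempty (D.Frame m)) (Nat.card D.B) with hm
  obtain ⟨F⟩ : Nonempty (D.Frame m) :=
    Nat.findGreatest_spec (P := fun m => Nonempty (D.Frame m)) (Nat.zero_le _) h0
  refine ⟨m, F, ⟨fun F' => ?_⟩⟩
  have := Nat.le_findGreatest (P := fun m => Nonempty (D.Frame m)) F'.le_card ⟨F'⟩
  omega

/-- The quaternion part. -/
def Quat {m : ℕ} (F : D.Frame m) (i j : D.B) : Prop :=
  i ∈ F.C ∧ j ∈ F.C ∧
    ((i = 1 ∧ j = 1 ∧ ∀ c ∈ F.C, ∃ u, c = D.z u) ∨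
    (i * i = D.z (-1) ∧ j * j = D.z (-1) ∧ D.com i j = -1 ∧ (∀ e : k, e ^ 2 ≠ -1) ∧
      ∀ c ∈ F.C, ∃ u, c = D.z u ∨ c = D.z u * i ∨ c = D.z u * j ∨ c = D.z u * (i * j)))

theorem exists_quat {m : ℕ} (F : D.Frame m) (hmax : IsEmpty (D.Frame (m + 1))) :
    ∃ i j, Quat F i j := by
  classical
  have hCz : ∀ u, D.z u ∈ F.C := fun u => F.mem_C.mpr fun i => ⟨D.com_z' _ _, D.com_z' _ _⟩
  by_cases htriv : ∀ c ∈ F.C, ∃ u, c = D.z u
  · exact ⟨1, 1, F.C.one_mem, F.C.one_mem, Or.inl ⟨rfl, rfl, htriv⟩⟩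
  simp only [not_forall, not_exists] at htriv
  obtain ⟨x0, hx0, hx0U⟩ := htriv
  -- a partner
  have partner : ∀ a ∈ F.C, (∀ u, a ≠ D.z u) → ∀ p : ℕ, p.Prime → p ∣ D.n → ∀ c, a ^ p = D.z c →
      ∃ b ∈ F.C, ∃ d, b ^ p = D.z d ∧ D.com a b ≠ 1 := by
    intro a ha haU p hp hpn c hc
    by_contra hcon
    simp only [not_exists, not_and, not_not] at hcon
    have hall : ∀ b ∈ F.C, D.com a b = 1 := by
      intro b hb
      obtain ⟨w, hw⟩ := D.isB.2.2.2.2 b b.2
      have hbn : b ^ D.n = D.z w := Subtype.ext (by rw [SubmonoidClass.coe_pow, z_val, hw])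
      obtain ⟨s, hs⟩ := hpn
      have h1 := hcon (b ^ s) (F.C.pow_mem hb s) w (by rw [← pow_mul, mul_comm, ← hs, hbn])
      rw [D.com_pow_right] at h1
      have h2 : D.com a b ^ p = 1 := D.com_pow_eq_one a b hc
      have hcop : Nat.Coprime s p := by
        refine (hp.coprime_iff_not_dvd.mpr fun hd => ?_).symm
        obtain ⟨t, ht⟩ := hd
        exact hp.one_lt.ne' (Nat.isUnit_iff.mp
          (D.hn p ⟨t, by rw [hs, ht]; ring⟩))
      exact orderOf_eq_one_iff.mp (Nat.eq_one_of_dvd_coprimes hcop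
        (orderOf_dvd_of_pow_eq_one h1) (orderOf_dvd_of_pow_eq_one h2))
    obtain ⟨u, hu⟩ := D.center_scalar (b := a) fun b => (D.com_eq_one_iff _ _).mp (by
      -- decompose `b` along the frame
      have hex : ∀ i, ∃ s t : ℕ, D.com (F.x i) b = F.ζ i ^ s ∧ D.com (F.y i) b = F.ζ i ^ t := by
        intro i
        obtain ⟨s, hs⟩ := mem_powers_of_prime (F.hr i) (F.hζ i) (c := D.com (F.x i) b) (by
          rw [← D.com_pow_left, F.hx, D.com_one_left])
        obtain ⟨t, ht⟩ := mem_powers_of_prime (F.hr i) (F.hζ i) (c := D.com (F.y i) b) (by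
          rw [← D.com_pow_left, F.hy, D.com_one_left])
        exact ⟨s, t, hs, ht⟩
      choose s t hs ht using hex
      let f : Fin m → D.B := fun i => F.x i ^ t i * (F.y i)⁻¹ ^ s i
      let w : D.B := (List.ofFn f).prod
      have hcinv : ∀ a b : D.B, D.com a b⁻¹ = (D.com a b)⁻¹ := fun a b =>
        eq_inv_of_mul_eq_one_left (by rw [← com_mul_right, inv_mul_cancel, com_one_right])
      have hxf : ∀ i j, D.com (F.x i) (f j) = if i = j then (F.ζ i)⁻¹ ^ s i else 1 := by
        intro i j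
        simp only [f, D.com_mul_right, D.com_pow_right, hcinv, F.hxx, one_pow, one_mul]
        by_cases e : i = j
        · subst e; rw [if_pos rfl, F.hxy]
        · rw [if_neg e, F.hoff i j e, inv_one, one_pow]
      have hyf : ∀ i j, D.com (F.y i) (f j) = if i = j then (F.ζ i)⁻¹ ^ t i else 1 := by
        intro i j
        simp only [f, D.com_mul_right, D.com_pow_right, hcinv, F.hyy, inv_one, one_pow, mul_one]
        by_cases e : i = j
        · subst e; rw [if_pos rfl, D.com_swap, F.hxy]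
        · rw [if_neg e, D.com_swap, F.hoff j i (Ne.symm e), inv_one, one_pow]
      have hlist : ∀ (v : D.B) (l : List D.B), D.com v l.prod = (l.map (D.com v)).prod := by
        intro v l
        induction l with
        | nil => simpa using D.com_one_right v
        | cons c l ih => rw [List.prod_cons, D.com_mul_right, ih, List.map_cons, List.prod_cons]
      have hbw : b * w ∈ F.C := by
        refine F.mem_C.mpr fun i => ⟨?_, ?_⟩
        · rw [D.com_mul_right, hlist, List.map_ofFn, List.prod_ofFn]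
          simp only [Function.comp_apply, hxf, Finset.prod_ite_eq, Finset.mem_univ, if_true]
          rw [hs, inv_pow, mul_inv_cancel]
        · rw [D.com_mul_right, hlist, List.map_ofFn, List.prod_ofFn]
          simp only [Function.comp_apply, hyf, Finset.prod_ite_eq, Finset.mem_univ, if_true]
          rw [ht, inv_pow, mul_inv_cancel]
      have hzero : D.com a w = 1 := by
        rw [hlist]
        refine List.prod_eq_one fun c hc => ?_
        obtain ⟨_, hmem, rfl⟩ := List.mem_map.mp hc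
        obtain ⟨j, rfl⟩ := List.mem_ofFn.mp hmem
        obtain ⟨h1, h2⟩ := F.mem_C.mp ha j
        simp only [f, D.com_mul_right, D.com_pow_right, hcinv]
        rw [D.com_swap (F.x j) a, D.com_swap (F.y j) a, h1, h2]
        simp
      have h1 := hall _ hbw
      rwa [D.com_mul_right, hzero, mul_one] at h1)
    exact haU u hu
  -- every non-scalar element of prime order mod scalars forces `r = 2` and `-1` a non-square
  have bad : ∀ a ∈ F.C, (∀ u, a ≠ D.z u) → ∀ p : ℕ, p.Prime → p ∣ D.n → ∀ c, a ^ p = D.z c →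
      p = 2 ∧ (∀ e : k, e ^ 2 ≠ -1) ∧ ∀ s : kˣ, c ≠ s ^ 2 := by
    intro a ha haU p hp hpn c hc
    obtain ⟨b, hb, d, hd, hab⟩ := partner a ha haU p hp hpn c hc
    have key : ∀ (a b : D.B) (c d : kˣ), a ∈ F.C → b ∈ F.C → a ^ p = D.z (c ^ p) →
        b ^ p = D.z (d ^ p) → D.com a b ≠ 1 → False := by
      intro a b c d ha hb hc hd hab
      refine hmax.elim' (F.extend hp (a := D.z c⁻¹ * a) (b := D.z d⁻¹ * b)
        (F.C.mul_mem (hCz _) ha) (F.C.mul_mem (hCz _) hb) ?_ ?_ ?_).some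
      · rw [Commute.mul_pow (D.z_comm _ a), hc, ← map_pow, ← map_mul, ← mul_pow, inv_mul_cancel,
          one_pow, map_one]
      · rw [Commute.mul_pow (D.z_comm _ b), hd, ← map_pow, ← map_mul, ← mul_pow, inv_mul_cancel,
          one_pow, map_one]
      · rwa [D.com_mul_left, D.com_z, one_mul, D.com_mul_right, D.com_z', one_mul]
    by_cases hsq : p ≠ 2 ∨ ∃ e : k, e ^ 2 = -1
    · exfalso
      obtain ⟨c', rfl⟩ := D.power_of_scalar_pow hp hsq a hc
      obtain ⟨d', rfl⟩ := D.power_of_scalar_pow hp hsq b hd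
      exact key a b c' d' ha hb hc hd hab
    simp only [not_or, not_not, not_exists] at hsq
    obtain ⟨rfl, hsq⟩ := hsq
    refine ⟨rfl, hsq, fun s hs => ?_⟩
    subst hs
    by_cases hd2 : ∃ t : kˣ, d = t ^ 2
    · obtain ⟨t, rfl⟩ := hd2
      exact key a b s t ha hb hc hd hab
    · -- replace `b` by `b * a`
      simp only [not_exists] at hd2
      have hcom : D.com a b = -1 := by
        have h2 : ((D.com a b : kˣ) : k) ^ 2 = 1 := by
          rw [← Units.val_pow_eq_pow_val, D.com_pow_eq_one a b hc, Units.val_one]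
        rcases sq_eq_one_iff.mp h2 with h | h
        · exact absurd (Units.ext h) hab
        · exact Units.ext h
      obtain ⟨t, e, he⟩ := pow_mul_pow_of_nonpower Nat.prime_two (a := (-1 : kˣ))
        (fun e he => hsq e (by rw [← Units.val_pow_eq_pow_val, he, Units.val_neg, Units.val_one])) d
      have ht : Odd t := by
        by_contra hodd
        rw [Nat.not_odd_iff_even] at hodd
        rw [hodd.neg_one_pow, one_mul] at he
        exact hd2 e he
      rw [ht.neg_one_pow] at he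
      refine key a (b * a) s (e * s) ha (F.C.mul_mem hb ha) hc ?_ ?_
      · rw [mul_pow', Nat.choose_self, pow_one, hd, hc, hcom, he, mul_pow]
        rw [← map_mul, ← map_mul]
        congr 1
        simp only [neg_mul, one_mul, neg_neg]
      · rwa [D.com_mul_right, (D.com_eq_one_iff a a).mpr rfl, mul_one]
  -- prime divisors of `n` other than `2` act trivially, so squares are scalar
  have sq_scalar : ∀ a ∈ F.C, ∃ c, a ^ 2 = D.z c := by
    intro a ha
    let W : Set ℕ := {t | 0 < t ∧ ∃ c, a ^ t = D.z c}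
    have hnW : D.n ∈ W := by
      obtain ⟨w, hw⟩ := D.isB.2.2.2.2 a a.2
      exact ⟨Nat.pos_of_ne_zero D.hn.ne_zero, w,
        Subtype.ext (by rw [SubmonoidClass.coe_pow, z_val, hw])⟩
    obtain ⟨t, ⟨htpos, c, hc⟩, hmin⟩ := Nat.lt_wfRel.wf.has_min W ⟨_, hnW⟩
    by_cases ht1 : t = 1
    · exact ⟨c ^ 2, by rw [map_pow, ← hc, ht1, pow_one]⟩
    obtain ⟨p, hp, hpt⟩ := Nat.exists_prime_and_dvd ht1
    obtain ⟨s, hs⟩ := hpt
    have hspos : 0 < s := Nat.pos_of_ne_zero fun e => by rw [e, mul_zero] at hs; omega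
    have hst : s < t := by
      have := hp.two_le
      rw [hs]; nlinarith
    have hsU : ∀ u, a ^ s ≠ D.z u := fun u hu => hmin s ⟨hspos, u, hu⟩ hst
    have hdvd : t ∣ D.n := by
      rw [Nat.dvd_iff_mod_eq_zero]
      by_contra hne
      obtain ⟨w, hw⟩ := hnW.2
      refine hmin (D.n % t) ⟨Nat.pos_of_ne_zero hne, w * (c ^ (D.n / t))⁻¹, ?_⟩
        (Nat.mod_lt _ htpos)
      rw [map_mul, map_inv, map_pow, ← hw, ← hc, eq_mul_inv_iff_mul_eq, ← pow_mul, ← pow_add,
        Nat.mod_add_div]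
    have hpn : p ∣ D.n := dvd_trans ⟨s, hs⟩ hdvd
    obtain ⟨rfl, -, -⟩ := bad (a ^ s) (F.C.pow_mem ha s) hsU p hp hpn c
      (by rw [← pow_mul, mul_comm, ← hs, hc])
    -- so `s` is one
    by_cases hs1 : s = 1
    · exact ⟨c, by rw [← hc, hs, hs1, mul_one]⟩
    exfalso
    obtain ⟨p', hp', hp's⟩ := Nat.exists_prime_and_dvd hs1
    have hp'2 : p' ≠ 2 := by
      rintro rfl
      obtain ⟨s', rfl⟩ := hp's
      have h4 : 2 * 2 ∣ D.n := dvd_trans ⟨s', by rw [hs, mul_assoc]⟩ hdvd
      exact Nat.prime_two.one_lt.ne' (Nat.isUnit_iff.mp (D.hn 2 h4))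
    obtain ⟨s', rfl⟩ := hp's
    have hs'pos : 0 < s' := Nat.pos_of_ne_zero fun e => by rw [e, mul_zero] at hspos; omega
    have := hp'.two_le
    refine hp'2 (bad (a ^ (2 * s')) (F.C.pow_mem ha _) (fun u hu => hmin (2 * s')
      ⟨by omega, u, hu⟩ (by rw [hs]; exact (Nat.mul_lt_mul_left two_pos).mpr (lt_mul_of_one_lt_left hs'pos hp'.one_lt))) p' hp'
      (dvd_trans ⟨2 * s', by rw [hs]; ring⟩ hdvd) c
      (by rw [← pow_mul, ← hc, hs]; ring_nf)).1
  have sq_data : ∀ a ∈ F.C, (∀ u, a ≠ D.z u) →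
      2 ∣ D.n ∧ ∃ c, a ^ 2 = D.z c := by
    intro a ha haU
    obtain ⟨c, hc⟩ := sq_scalar a ha
    obtain ⟨w, hw⟩ := D.isB.2.2.2.2 a a.2
    have hwn : a ^ D.n = D.z w := Subtype.ext (by rw [SubmonoidClass.coe_pow, z_val, hw])
    refine ⟨?_, c, hc⟩
    by_contra h2
    obtain ⟨s, hs⟩ := (Nat.not_even_iff_odd.mp (fun he => h2 (even_iff_two_dvd.mp he)) :
      Odd D.n)
    rw [hs, pow_succ, pow_mul, hc, ← map_pow] at hwn
    exact haU ((c ^ s)⁻¹ * w) (by rw [map_mul, ← hwn, map_inv, inv_mul_cancel_left])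
  have norm : ∀ a ∈ F.C, (∀ u, a ≠ D.z u) →
      ∃ a' ∈ F.C, (∃ u, a = D.z u * a') ∧ a' * a' = D.z (-1) ∧ ∀ e : k, e ^ 2 ≠ -1 := by
    intro a ha haU
    obtain ⟨h2n, c, hc⟩ := sq_data a ha haU
    obtain ⟨-, hsq, hns⟩ := bad a ha haU 2 Nat.prime_two h2n c hc
    obtain ⟨t, e, he⟩ := pow_mul_pow_of_nonpower Nat.prime_two (a := (-1 : kˣ))
      (fun e he => hsq e (by rw [← Units.val_pow_eq_pow_val, he, Units.val_neg, Units.val_one])) c
    have ht : Odd t := by
      by_contra hodd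
      rw [Nat.not_odd_iff_even] at hodd
      rw [hodd.neg_one_pow, one_mul] at he
      exact hns e he
    rw [ht.neg_one_pow] at he
    refine ⟨D.z e⁻¹ * a, F.C.mul_mem (hCz _) ha, ⟨e, ?_⟩, ?_, hsq⟩
    · rw [← mul_assoc, ← map_mul, mul_inv_cancel, map_one, one_mul]
    · rw [← sq, Commute.mul_pow (D.z_comm _ a), hc, he, ← map_pow, ← map_mul]
      congr 1
      rw [inv_pow, mul_left_comm, inv_mul_cancel, mul_one]
  obtain ⟨i, hiC, ⟨ui, hui⟩, hii, hsq⟩ := norm x0 hx0 hx0U
  have hiU : ∀ u, i ≠ D.z u := fun u e => hx0U (ui * u) (by rw [hui, e, map_mul])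
  obtain ⟨h2n, -⟩ := sq_data i hiC hiU
  obtain ⟨b, hbC, d, hd, hib⟩ := partner i hiC hiU 2 Nat.prime_two h2n (-1) (by rw [sq, hii])
  have hbU : ∀ u, b ≠ D.z u := fun u e => hib (by rw [e, D.com_z'])
  obtain ⟨j, hjC, ⟨uj, huj⟩, hjj, -⟩ := norm b hbC hbU
  have pm : ∀ a b : D.B, ∀ c, a ^ 2 = D.z c → D.com a b = 1 ∨ D.com a b = -1 := by
    intro a b c hc
    have h2 : ((D.com a b : kˣ) : k) ^ 2 = 1 := by
      rw [← Units.val_pow_eq_pow_val, D.com_pow_eq_one a b hc, Units.val_one]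
    rcases sq_eq_one_iff.mp h2 with h | h
    · exact Or.inl (Units.ext h)
    · exact Or.inr (Units.ext h)
  have hij : D.com i j = -1 := by
    refine (pm i j (-1) (by rw [sq, hii])).resolve_left fun h => hib ?_
    rw [huj, D.com_mul_right, D.com_z', one_mul, h]
  have hneg : (-1 : kˣ) ≠ 1 := fun e => hsq 1 (by rw [one_pow]; exact (congrArg Units.val e).symm)
  refine ⟨i, j, hiC, hjC, Or.inr ⟨hii, hjj, hij, hsq, fun c hc => ?_⟩⟩
  -- centralising both forces scalar
  have central : ∀ d ∈ F.C, D.com d i = 1 → D.com d j = 1 → ∃ u, d = D.z u := by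
    intro d hdC hdi hdj
    by_contra hdU
    simp only [not_exists] at hdU
    obtain ⟨d', hd'C, ⟨u', hu'⟩, hdd, -⟩ := norm d hdC hdU
    have hd'i : D.com d' i = 1 := by rwa [hu', D.com_mul_left, D.com_z, one_mul] at hdi
    have hd'j : D.com d' j = 1 := by rwa [hu', D.com_mul_left, D.com_z, one_mul] at hdj
    by_cases hsc : ∀ u, d' * i ≠ D.z u
    · have hdi' : (d' * i) ^ 2 = D.z (1 ^ 2) := by
        rw [Commute.mul_pow ((D.com_eq_one_iff _ _).mp hd'i), sq, sq, hdd, hii, ← map_mul,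
          neg_one_mul, neg_neg, one_pow]
      exact (bad _ (F.C.mul_mem hd'C hiC) hsc 2 Nat.prime_two h2n _ hdi').2.2 1 rfl
    · simp only [not_forall, not_not] at hsc
      obtain ⟨u, hu⟩ := hsc
      have := D.com_z u j
      rw [← hu, D.com_mul_left, hd'j, one_mul, hij] at this
      exact hneg this
  obtain ⟨cc, hcc⟩ := sq_scalar c hc
  have hcancel : ∀ w ∈ F.C, ∀ v, w * w = D.z v → D.com (c * w) i = 1 → D.com (c * w) j = 1 →
      ∃ u, c = D.z u * w := by
    intro w hw v hv h1 h2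
    obtain ⟨u, hu⟩ := central _ (F.C.mul_mem hc hw) h1 h2
    refine ⟨u * v⁻¹, ?_⟩
    rw [map_mul, map_inv, ← hu, ← hv, mul_inv_rev]
    group
  have hci := pm c i cc hcc
  have hcj := pm c j cc hcc
  have hii1 : D.com i i = 1 := (D.com_eq_one_iff _ _).mpr rfl
  have hjj1 : D.com j j = 1 := (D.com_eq_one_iff _ _).mpr rfl
  have hji : D.com j i = -1 := by rw [D.com_swap, hij, inv_neg_one]
  rcases hci with hci | hci <;> rcases hcj with hcj | hcj
  · obtain ⟨u, hu⟩ := central c hc hci hcj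
    exact ⟨u, Or.inl hu⟩
  · obtain ⟨u, hu⟩ := hcancel i hiC (-1) hii (by rw [D.com_mul_left, hci, hii1, one_mul])
      (by rw [D.com_mul_left, hcj, hij, neg_one_mul, neg_neg])
    exact ⟨u, Or.inr (Or.inl hu)⟩
  · obtain ⟨u, hu⟩ := hcancel j hjC (-1) hjj
      (by rw [D.com_mul_left, hci, hji, neg_one_mul, neg_neg])
      (by rw [D.com_mul_left, hcj, hjj1, one_mul])
    exact ⟨u, Or.inr (Or.inr (Or.inl hu))⟩
  · have hw2 : (i * j) * (i * j) = D.z (-1) := by
      rw [← sq, mul_pow', Nat.choose_self, pow_one, hji, sq, sq, hii, hjj, ← map_mul, ← map_mul]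
      congr 1
      rw [neg_one_mul, neg_one_mul, neg_neg]
    obtain ⟨u, hu⟩ := hcancel (i * j) (F.C.mul_mem hiC hjC) (-1) hw2
      (by rw [D.com_mul_left, D.com_mul_left, hci, hii1, hji, one_mul, neg_one_mul, neg_neg])
      (by rw [D.com_mul_left, D.com_mul_left, hcj, hij, hjj1, mul_one, neg_one_mul, neg_neg])
    exact ⟨u, Or.inr (Or.inr (Or.inr hu))⟩

end BData

end Cfsg.Agent.BaseSize
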