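import Cfsg.Agent.BaseSize.PrimMain

/-!
# Five colourings of the points of a solvable permutation group without intransitive normal subgroup
-/

set_option autoImplicit false
set_option linter.style.haveILetI false
set_option linter.unusedSectionVars false

open scoped commutatorElement

namespace Cfsg.Agent.BaseSize

/-- Irreducibility of a group of automorphisms. -/
def Irr {V : Type*} [AddCommGroup V] (G : Subgroup (AddMonoid.End V)ˣ) : Prop :=
  ∀ W : AddSubgroup V, (∀ g ∈ G, ∀ w ∈ W, g • w ∈ W) → W = ⊥ ∨ W = ⊤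

/-- The induction hypothesis. -/
def FiveBelow (n : ℕ) : Prop :=
  ∀ (W : Type) [AddCommGroup W] [Finite W] [Nontrivial W] (H : Subgroup (AddMonoid.End W)ˣ),
    Nat.card W < n → Group.IsSolvable H → Irr H → FiveBase H W

theorem interval_inj : ∀ n l l' : Fin 5, 0 < n.val →
    (∀ j : Fin 5, j.val < n.val → ∃ j' : Fin 5, j'.val < n.val ∧ j + l = j' + l') → l = l' := by
  decide +kernel

variable {ι : Type} [Finite ι] (S : Subgroup (Equiv.Perm ι))

/-- Five colourings with five colours, in distinct regular orbits. -/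
def FiveColour : Prop :=
  ∃ C : Fin 5 → ι → Fin 5, ∀ l l' : Fin 5, ∀ s ∈ S, (∀ i, C l i = C l' (s i)) → l = l' ∧ s = 1

theorem fiveColour_small [Nonempty ι] (h4 : Nat.card ι ≤ 4) : FiveColour S := by
  obtain ⟨n, ⟨e⟩⟩ := Finite.exists_equiv_fin ι
  have hn : n ≤ 4 := by rwa [Nat.card_congr e, Nat.card_fin] at h4
  have hn0 : 0 < n := by
    have := e (Classical.arbitrary ι)
    exact this.pos
  let v : ι → Fin 5 := fun i => ⟨(e i).val, lt_of_lt_of_le (e i).isLt (by omega)⟩
  refine ⟨fun l i => v i + l, fun l l' s _ h => ?_⟩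
  have hll : l = l' := by
    refine interval_inj ⟨n, by omega⟩ l l' hn0 fun j hj => ?_
    refine ⟨v (s (e.symm ⟨j.val, hj⟩)), (e _).isLt, ?_⟩
    have := h (e.symm ⟨j.val, hj⟩)
    simp only at this
    rw [← this]
    simp [v]
  subst hll
  refine ⟨rfl, Equiv.ext fun i => e.injective (Fin.ext ?_)⟩
  have := congrArg Fin.val (add_right_cancel (h i))
  simpa [v] using this.symm

theorem fiveColour_five (h5 : Nat.card ι = 5) (hS : Nat.card S ≤ 20) : FiveColour S := by
  classical
  haveI : Fintype ι := Fintype.ofFinite ι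
  have hX : Nat.card (ι ≃ Fin 5) = 120 := by
    rw [Nat.card_eq_fintype_card, Fintype.card_equiv (Finite.equivFinOfCardEq h5),
      ← Nat.card_eq_fintype_card, h5]
    rfl
  let st : Setoid (ι ≃ Fin 5) :=
    { r := fun e e' => ∃ s ∈ S, ∀ i, e i = e' (s i)
      iseqv :=
        { refl := fun e => ⟨1, S.one_mem, fun i => rfl⟩
          symm := fun {e e'} ⟨s, hs, h⟩ => ⟨s⁻¹, S.inv_mem hs, fun i => by
            rw [h (s⁻¹ i), Equiv.Perm.coe_inv, Equiv.apply_symm_apply]⟩
          trans := fun {a b c} ⟨s, hs, h⟩ ⟨t, ht, h'⟩ => ⟨t * s, S.mul_mem ht hs, fun i => by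
            rw [h, h']; rfl⟩ } }
  have hcount : Nat.card (ι ≃ Fin 5) ≤ Nat.card (Quotient st × S) := by
    refine Nat.card_le_card_of_injective (fun e =>
      (Quotient.mk st e, ⟨(Quotient.exact (Quotient.out_eq (Quotient.mk st e)).symm).choose,
        (Quotient.exact (Quotient.out_eq (Quotient.mk st e)).symm).choose_spec.1⟩)) ?_
    intro e e' he
    simp only [Prod.mk.injEq, Subtype.mk.injEq] at he
    refine Equiv.ext fun i => ?_
    rw [(Quotient.exact (Quotient.out_eq (Quotient.mk st e)).symm).choose_spec.2 i,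
      (Quotient.exact (Quotient.out_eq (Quotient.mk st e')).symm).choose_spec.2 i, he.2, he.1]
  rw [hX, Nat.card_prod] at hcount
  have h6 : 5 ≤ Nat.card (Quotient st) := by
    by_contra hlt
    nlinarith
  haveI : Fintype (Quotient st) := Fintype.ofFinite _
  obtain ⟨emb⟩ : Nonempty (Fin 5 ↪ Quotient st) := Function.Embedding.nonempty_of_card_le (by
    rw [Fintype.card_fin, ← Nat.card_eq_fintype_card]; exact h6)
  refine ⟨fun l i => (emb l).out i, fun l l' s hs h => ?_⟩
  have hll : l = l' := emb.injective (by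
    rw [← Quotient.out_eq (emb l), ← Quotient.out_eq (emb l')]
    exact Quotient.sound ⟨s, hs, h⟩)
  subst hll
  exact ⟨rfl, Equiv.ext fun i => ((emb l).out.injective (h i)).symm⟩

/-- Five colourings for solvable permutation groups all of whose non-trivial normal subgroups are
transitive. -/
theorem fiveColour (hsol : Group.IsSolvable S) (hι : 1 < Nat.card ι)
    (htrans : ∀ i j : ι, ∃ s ∈ S, s i = j)
    (hnorm : ∀ N : Subgroup S, N.Normal → N ≠ ⊥ → ∀ i j : ι, ∃ n ∈ N, (n : Equiv.Perm ι) i = j)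
    {b : ℕ} (hb : Nat.card ι < b) (hIH : FiveBelow b) : FiveColour S := by
  classical
  haveI : Nontrivial ι := Finite.one_lt_card_iff_nontrivial.mp hι
  -- a minimal abelian normal subgroup
  have hS1 : (⊤ : Subgroup S) ≠ ⊥ := by
    obtain ⟨i, j, hij⟩ := exists_pair_ne ι
    obtain ⟨s, hs, hsij⟩ := htrans i j
    intro h
    have : (⟨s, hs⟩ : S) ∈ (⊥ : Subgroup S) := h ▸ Subgroup.mem_top _
    rw [Subgroup.mem_bot] at this
    have hs1 : s = 1 := congrArg Subtype.val this
    rw [hs1] at hsij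
    exact hij hsij
  obtain ⟨N, ⟨hNn, hNab, hN1⟩, hmin⟩ : ∃ N : Subgroup S,
      (N.Normal ∧ (∀ x ∈ N, ∀ y ∈ N, x * y = y * x) ∧ N ≠ ⊥) ∧
      ∀ M : Subgroup S, (M.Normal ∧ (∀ x ∈ M, ∀ y ∈ M, x * y = y * x) ∧ M ≠ ⊥) →
        M ≤ N → N ≤ M := by
    have hex : ∃ M : Subgroup S, M.Normal ∧ (∀ x ∈ M, ∀ y ∈ M, x * y = y * x) ∧ M ≠ ⊥ := by
      obtain ⟨d, hd⟩ := hsol.solvable
      have h0 : derivedSeries S 0 ≠ ⊥ := hS1
      obtain ⟨i, hi, hi'⟩ : ∃ i, derivedSeries S i ≠ ⊥ ∧ derivedSeries S (i + 1) = ⊥ := by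
        by_contra hcon
        simp only [not_exists, not_and] at hcon
        have : ∀ i, derivedSeries S i ≠ ⊥ := by
          intro i
          induction i with
          | zero => exact h0
          | succ i ih => exact hcon i ih
        exact this d hd
      refine ⟨derivedSeries S i, derivedSeries_normal _ _, fun x hx y hy => ?_, hi⟩
      have : ⁅x, y⁆ ∈ derivedSeries S (i + 1) := by
        rw [derivedSeries_succ]; exact Subgroup.commutator_mem_commutator hx hy
      rw [hi', Subgroup.mem_bot, commutatorElement_eq_one_iff_mul_comm] at this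
      exact this
    haveI : Nonempty {M : Subgroup S // M.Normal ∧ (∀ x ∈ M, ∀ y ∈ M, x * y = y * x) ∧ M ≠ ⊥} :=
      ⟨⟨_, hex.choose_spec⟩⟩
    obtain ⟨N, hN⟩ := Finite.exists_min
      (fun M : {M : Subgroup S // M.Normal ∧ (∀ x ∈ M, ∀ y ∈ M, x * y = y * x) ∧ M ≠ ⊥} =>
        Nat.card M.1)
    exact ⟨N.1, N.2, fun M hM hle => (Subgroup.eq_of_le_of_card_ge hle (hN ⟨M, hM⟩)).ge⟩
  haveI := hNn
  obtain ⟨i0⟩ : Nonempty ι := inferInstance
  -- regularity
  let pt : N → ι := fun n => ((n : S) : Equiv.Perm ι) i0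
  have hfix : ∀ n : N, pt n = i0 → n = 1 := by
    intro n hn
    refine Subtype.ext (Subtype.ext (Equiv.ext fun i => ?_))
    obtain ⟨m, hm, rfl⟩ := hnorm N hNn hN1 i0 i
    have := congrArg (fun x : S => (x : Equiv.Perm ι) i0) (hNab n n.2 m hm)
    simp only [Subgroup.coe_mul, Equiv.Perm.mul_apply] at this
    exact this.trans (congrArg _ hn)
  have hbij : Function.Bijective pt := by
    refine ⟨fun n n' h => ?_, fun i => ?_⟩
    · have := hfix (n'⁻¹ * n) (by
        show ((n' : S) : Equiv.Perm ι)⁻¹ (((n : S) : Equiv.Perm ι) i0) = i0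
        rw [show ((n : S) : Equiv.Perm ι) i0 = ((n' : S) : Equiv.Perm ι) i0 from h,
          Equiv.Perm.coe_inv, Equiv.symm_apply_apply])
      exact (inv_mul_eq_one.mp this).symm
    · obtain ⟨m, hm, e⟩ := hnorm N hNn hN1 i0 i
      exact ⟨⟨m, hm⟩, e⟩
  let S0 : Subgroup S := (MulAction.stabilizer (Equiv.Perm ι) i0).subgroupOf S
  have hS0 : ∀ s : S, s ∈ S0 ↔ (s : Equiv.Perm ι) i0 = i0 := fun s => Iff.rfl
  have hpt_conj : ∀ (s : S0) (n : N),
      pt (MulAut.conjNormal (s : S) n) = ((s : S) : Equiv.Perm ι) (pt n) := by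
    intro s n
    show (((MulAut.conjNormal (s : S) n : N) : S) : Equiv.Perm ι) i0 = _
    rw [MulAut.conjNormal_apply]
    simp only [Subgroup.coe_mul, Subgroup.coe_inv, Equiv.Perm.mul_apply, pt]
    congr 2
    have := (hS0 (s⁻¹ : S0)).mp (s⁻¹).2
    exact this
  have hcardS : Nat.card S ≤ Nat.card ι * Nat.card S0 := by
    let nn : ι → N := fun i => (hbij.2 i).choose
    have hnn : ∀ i, pt (nn i) = i := fun i => (hbij.2 i).choose_spec
    rw [← Nat.card_prod]
    refine Nat.card_le_card_of_injective (fun s : S => ((s : Equiv.Perm ι) i0,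
      (⟨(nn ((s : Equiv.Perm ι) i0) : S)⁻¹ * s, ?_⟩ : S0))) ?_
    · show ((nn ((s : Equiv.Perm ι) i0) : S) : Equiv.Perm ι)⁻¹ ((s : Equiv.Perm ι) i0) = i0
      rw [Equiv.Perm.coe_inv, Equiv.symm_apply_eq]
      exact (hnn _).symm
    · intro s t h
      simp only [Prod.mk.injEq, Subtype.mk.injEq] at h
      rw [h.1] at h
      exact mul_left_cancel h.2
  -- the linear group on `N`
  haveI : IsMulCommutative N := ⟨⟨fun a b => Subtype.ext (hNab a a.2 b b.2)⟩⟩
  letI : CommGroup N := { (inferInstance : Group N) with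
    mul_comm := fun a b => Subtype.ext (hNab a a.2 b b.2) }
  let f : S0 →* AddMonoid.End (Additive N) :=
    { toFun := fun s => MonoidHom.toAdditive (MulAut.conjNormal (s : S) : N ≃* N).toMonoidHom
      map_one' := by
        refine DFunLike.ext _ _ fun a => ?_
        simp only [OneMemClass.coe_one, map_one]
        rfl
      map_mul' := fun s t => by
        refine DFunLike.ext _ _ fun a => ?_
        simp only [Subgroup.coe_mul, map_mul]
        rfl }
  let φ : S0 →* (AddMonoid.End (Additive N))ˣ := f.toHomUnits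
  have hφ : ∀ (s : S0) (a : Additive N),
      φ s • a = Additive.ofMul (MulAut.conjNormal (s : S) (Additive.toMul a)) := fun s a => rfl
  have hinj : Function.Injective φ := by
    intro s t h
    refine Subtype.ext (Subtype.ext (Equiv.ext fun i => ?_))
    obtain ⟨n, rfl⟩ := hbij.2 i
    rw [← hpt_conj, ← hpt_conj]
    have := congrArg (fun u => u • Additive.ofMul n) h
    simp only [hφ] at this
    exact congrArg pt (Additive.ofMul.injective this)
  rcases (by omega : Nat.card ι ≤ 4 ∨ Nat.card ι = 5 ∨ 6 ≤ Nat.card ι) with h4 | h5 | h6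
  · exact fiveColour_small S h4
  · refine fiveColour_five S h5 ?_
    have hN5 : Nat.card N = 5 := by rw [Nat.card_congr (Equiv.ofBijective pt hbij), h5]
    haveI : Fact (Nat.card N).Prime := ⟨by rw [hN5]; norm_num⟩
    haveI : IsCyclic N := isCyclic_of_prime_card (p := Nat.card N) rfl
    have h4' : Nat.card S0 ≤ Nat.card (MulAut N) := by
      refine Nat.card_le_card_of_injective (fun s : S0 => MulAut.conjNormal (s : S))
        fun s t h => hinj ?_
      refine Units.ext (DFunLike.ext _ _ fun a => ?_)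
      have e1 := hφ s a
      have e2 := hφ t a
      simp only at h
      rw [h] at e1
      exact e1.trans e2.symm
    rw [IsCyclic.card_mulAut, hN5, Nat.totient_prime (by norm_num : Nat.Prime 5)] at h4'
    rw [h5] at hcardS
    omega
  -- the generic case
  haveI : Nontrivial (Additive N) := (Subgroup.nontrivial_iff_ne_bot N).mpr hN1
  have hcardN : Nat.card (Additive N) = Nat.card ι :=
    (Nat.card_congr Additive.toMul).trans (Nat.card_congr (Equiv.ofBijective pt hbij))
  have hirr : Irr φ.range := by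
    intro M hM
    let M' : Subgroup S := (AddSubgroup.toSubgroup' M).map N.subtype
    have hM'N : M' ≤ N := by rintro _ ⟨n, -, rfl⟩; exact n.2
    have hM'n : M'.Normal := by
      refine ⟨?_⟩
      rintro _ ⟨n, hn, rfl⟩ g
      obtain ⟨m, hm⟩ := hbij.2 ((g : Equiv.Perm ι) i0)
      let s : S0 := ⟨(m : S)⁻¹ * g, by
        show ((m : S) : Equiv.Perm ι)⁻¹ ((g : Equiv.Perm ι) i0) = i0
        rw [Equiv.Perm.coe_inv, Equiv.symm_apply_eq]
        exact hm.symm⟩
      refine ⟨MulAut.conjNormal (s : S) n, hM (φ s) ⟨s, rfl⟩ (Additive.ofMul n) hn, ?_⟩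
      have hcm : ((MulAut.conjNormal (s : S) n : N) : S) * (m : S) =
          (m : S) * ((MulAut.conjNormal (s : S) n : N) : S) :=
        hNab _ (MulAut.conjNormal (s : S) n).2 _ m.2
      rw [MulAut.conjNormal_apply] at hcm
      rw [Subgroup.coe_subtype, MulAut.conjNormal_apply]
      simp only [s, mul_inv_rev, inv_inv] at hcm ⊢
      calc (m : S)⁻¹ * g * n * (g⁻¹ * m)
          = (m : S)⁻¹ * g * n * (g⁻¹ * m) * m * (m : S)⁻¹ := by group
        _ = (m : S) * ((m : S)⁻¹ * g * n * (g⁻¹ * m)) * (m : S)⁻¹ := by rw [hcm]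
        _ = g * n * g⁻¹ := by group
    by_cases hbot : M' = ⊥
    · left
      refine (AddSubgroup.eq_bot_iff_forall M).mpr fun a ha => ?_
      have : ((Additive.toMul a : N) : S) ∈ M' := ⟨Additive.toMul a, ha, rfl⟩
      rw [hbot, Subgroup.mem_bot] at this
      exact Additive.toMul.injective (Subtype.ext this)
    · right
      have hle := hmin M' ⟨hM'n, fun x hx y hy => hNab x (hM'N hx) y (hM'N hy), hbot⟩ hM'N
      refine (AddSubgroup.eq_top_iff' M).mpr fun a => ?_
      obtain ⟨n, hn, e⟩ := hle (Additive.toMul a).2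
      rw [Subtype.ext e] at hn
      exact hn
  haveI : Group.IsSolvable S0 := by haveI := hsol; infer_instance
  have hsolφ : Group.IsSolvable φ.range := Group.isSolvable_of_surjective φ.rangeRestrict_surjective
  obtain ⟨fb, hfb⟩ := hIH (Additive N) φ.range (by omega) hsolφ hirr
  let a1 := pt (Additive.toMul (fb 0).1)
  let a2 := pt (Additive.toMul (fb 0).2.1)
  let a3 := pt (Additive.toMul (fb 0).2.2)
  let c : ι → Fin 5 := fun i =>
    if i = i0 then 0 else if i = a1 then 1 else if i = a2 then 2 else if i = a3 then 3 else 4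
  let rep : Fin 5 → ι := ![i0, a1, a2, a3, i0]
  have hrep : ∀ i, c i ≠ 4 → i = rep (c i) := by
    intro i h4
    by_cases e0 : i = i0
    · simp only [c, if_pos e0]; exact e0
    by_cases e1 : i = a1
    · simp only [c, if_neg e0, if_pos e1]; exact e1
    by_cases e2 : i = a2
    · simp only [c, if_neg e0, if_neg e1, if_pos e2]; exact e2
    by_cases e3 : i = a3
    · simp only [c, if_neg e0, if_neg e1, if_neg e2, if_pos e3]; exact e3
    · exact absurd (by simp only [c, if_neg e0, if_neg e1, if_neg e2, if_neg e3]) h4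
  have hsingle : ∀ i i', c i = c i' → c i ≠ 4 → i = i' := fun i i' h h4 => by
    rw [hrep i h4, hrep i' (h ▸ h4), h]
  haveI : Fintype ι := Fintype.ofFinite ι
  obtain ⟨p, hp, q, hq, hpq⟩ : ∃ p, c p = 4 ∧ ∃ q, c q = 4 ∧ p ≠ q := by
    have h2 : 1 < (Finset.univ \ ({i0, a1, a2, a3} : Finset ι)).card := by
      have h4 : ({i0, a1, a2, a3} : Finset ι).card ≤ 4 := Finset.card_le_four
      have := Finset.le_card_sdiff ({i0, a1, a2, a3} : Finset ι) Finset.univ
      rw [Finset.card_univ, ← Nat.card_eq_fintype_card] at this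
      omega
    obtain ⟨p, hp, q, hq, hne⟩ := Finset.one_lt_card.mp h2
    simp only [Finset.mem_sdiff, Finset.mem_univ, true_and, Finset.mem_insert,
      Finset.mem_singleton, not_or] at hp hq
    exact ⟨p, by simp only [c, if_neg hp.1, if_neg hp.2.1, if_neg hp.2.2.1, if_neg hp.2.2.2],
      q, by simp only [c, if_neg hq.1, if_neg hq.2.1, if_neg hq.2.2.1, if_neg hq.2.2.2], hne⟩
  refine ⟨fun l i => Equiv.swap 4 l (c i), fun l l' s hs h => ?_⟩
  simp only at h
  have hll : l = l' := by
    have h1 := h p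
    have h2 := h q
    rw [hp, Equiv.swap_apply_left] at h1
    rw [hq, Equiv.swap_apply_left] at h2
    have e : c (s p) = c (s q) := (Equiv.swap 4 l').injective (h1.symm.trans h2)
    by_contra hne
    refine hpq (s.injective (hsingle _ _ e fun e4 => hne ?_))
    rw [e4, Equiv.swap_apply_left] at h1
    exact h1
  subst hll
  refine ⟨rfl, ?_⟩
  have hc : ∀ i, c (s i) = c i := fun i => ((Equiv.swap 4 l).injective (h i)).symm
  have hfix' : ∀ i, c i ≠ 4 → s i = i := fun i hi => hsingle _ _ (hc i) (by rw [hc]; exact hi)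
  have hs0 : s i0 = i0 := hfix' i0 (by simp [c])
  let t : S0 := ⟨⟨s, hs⟩, hs0⟩
  have hpts : ∀ a : Additive N, (c (pt (Additive.toMul a)) ≠ 4) →
      (⟨φ t, t, rfl⟩ : φ.range) • a = a := by
    intro a ha
    show φ t • a = a
    rw [hφ]
    exact Additive.toMul.injective (hbij.1 (by rw [toMul_ofMul, hpt_conj]; exact hfix' _ ha))
  have h4 : (⟨φ t, t, rfl⟩ : φ.range) • fb 0 = fb 0 :=
    Prod.ext (hpts _ (by simp only [c, a1]; split_ifs <;> decide))
      (Prod.ext (hpts _ (by simp only [c, a2]; split_ifs <;> decide))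
        (hpts _ (by simp only [c, a3]; split_ifs <;> decide)))
  have h5 : φ t = φ 1 := by rw [map_one]; exact congrArg Subtype.val (hfb 0 0 _ h4).2
  exact congrArg (fun x : S0 => ((x : S) : Equiv.Perm ι)) (hinj h5)

end Cfsg.Agent.BaseSize
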