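import Cfsg.Agent.BaseSize.Frame
import Cfsg.Agent.BaseSize.Colour

/-!
# Five inequivalent bases of size three for semilinear groups without imprimitive structure
-/

set_option autoImplicit false
set_option linter.style.haveILetI false
set_option linter.unusedSectionVars false

open Finset

namespace Cfsg.Agent.BaseSize

/-- Five triples in distinct regular orbits. -/
def FiveBase (G V : Type*) [One G] [SMul G V] : Prop :=
  ∃ f : Fin 5 → V × V × V, ∀ (i j : Fin 5) (g : G), g • f i = f j → i = j ∧ g = 1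

theorem fiveBase_of_card {G V O : Type*} [One G] [SMul G V] [Finite O] (h5 : 5 ≤ Nat.card O)
    (f : O → V × V × V) (hf : ∀ (i j : O) (g : G), g • f i = f j → i = j ∧ g = 1) :
    FiveBase G V := by
  haveI : Fintype O := Fintype.ofFinite O
  obtain ⟨e⟩ : Nonempty (Fin 5 ↪ O) := Function.Embedding.nonempty_of_card_le (by
    rw [Fintype.card_fin, ← Nat.card_eq_fintype_card]; exact h5)
  refine ⟨fun i => f (e i), fun i j g h => ?_⟩
  obtain ⟨h1, h2⟩ := hf _ _ _ h
  exact ⟨e.injective h1, h2⟩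

namespace BData

variable {k V G : Type*} [Field k] [AddCommGroup V] [Module k V] [Group G]
  [DistribMulAction G V] {D : BData k V G} [Finite k] [Finite G] [Finite V]

variable {m : ℕ} (F : D.Frame m)

/-- The index group. -/
abbrev Frame.L : Type := (i : Fin m) → ZMod (F.r i)

instance Frame.neZero (i : Fin m) : NeZero (F.r i) := ⟨(F.hr i).ne_zero⟩

/-- The hom `a ↦ b ^ a` for `b ^ r = 1`. -/
noncomputable def powHom {M : Type*} [Monoid M] (r : ℕ) [NeZero r] (b : M) (hb : b ^ r = 1) :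
    Multiplicative (ZMod r) →* M where
  toFun a := b ^ (Multiplicative.toAdd a).val
  map_one' := by simp
  map_mul' a c := by
    rw [toAdd_mul, ZMod.val_add, ← pow_eq_pow_mod _ hb, pow_add]

theorem Frame.commute_y (i j : Fin m) : Commute (F.y i) (F.y j) :=
  (D.com_eq_one_iff _ _).mp (F.hyy i j)

theorem Frame.commute_x (i j : Fin m) : Commute (F.x i) (F.x j) :=
  (D.com_eq_one_iff _ _).mp (F.hxx i j)

theorem Frame.pairwise_y : Pairwise fun i j => ∀ (a : Multiplicative (ZMod (F.r i)))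
    (b : Multiplicative (ZMod (F.r j))),
    Commute (powHom (F.r i) (F.y i) (F.hy i) a) (powHom (F.r j) (F.y j) (F.hy j) b) :=
  fun i j _ _ _ => (F.commute_y i j).pow_pow _ _

theorem Frame.pairwise_x : Pairwise fun i j => ∀ (a : Multiplicative (ZMod (F.r i)))
    (b : Multiplicative (ZMod (F.r j))),
    Commute (powHom (F.r i) (F.x i) (F.hx i) a) (powHom (F.r j) (F.x j) (F.hx j) b) :=
  fun i j _ _ _ => (F.commute_x i j).pow_pow _ _

noncomputable def Frame.yHom : ((i : Fin m) → Multiplicative (ZMod (F.r i))) →* D.B :=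
  MonoidHom.noncommPiCoprod (fun i => powHom (F.r i) (F.y i) (F.hy i))
    F.pairwise_y

noncomputable def Frame.xHom : ((i : Fin m) → Multiplicative (ZMod (F.r i))) →* D.B :=
  MonoidHom.noncommPiCoprod (fun i => powHom (F.r i) (F.x i) (F.hx i))
    F.pairwise_x

/-- The products of the `y`s. -/
noncomputable def Frame.Y (a : F.L) : D.B := F.yHom fun i => Multiplicative.ofAdd (a i)

/-- The products of the `x`s. -/
noncomputable def Frame.Xv (a : F.L) : D.B := F.xHom fun i => Multiplicative.ofAdd (a i)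

theorem Frame.Y_add (a b : F.L) : F.Y (a + b) = F.Y a * F.Y b := by
  rw [Frame.Y, Frame.Y, Frame.Y, ← map_mul]; rfl

theorem Frame.Y_zero : F.Y 0 = 1 := by
  rw [Frame.Y, ← map_one F.yHom]; rfl

theorem Frame.Y_neg_mul (a : F.L) : F.Y (-a) * F.Y a = 1 := by
  rw [← F.Y_add, neg_add_cancel, F.Y_zero]

theorem Frame.Xv_zero : F.Xv 0 = 1 := by
  rw [Frame.Xv, ← map_one F.xHom]; rfl

open Classical in
theorem Frame.Y_single (i : Fin m) : F.Y (Pi.single i 1) = F.y i := by
  have h : (fun j => Multiplicative.ofAdd ((Pi.single i 1 : F.L) j)) =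
      Pi.mulSingle (M := fun j => Multiplicative (ZMod (F.r j))) i (Multiplicative.ofAdd 1) := by
    funext j
    by_cases e : j = i
    · subst e; simp
    · simp [e]
  rw [Frame.Y, h, Frame.yHom, MonoidHom.noncommPiCoprod_mulSingle]
  haveI : Fact (1 < F.r i) := ⟨(F.hr i).one_lt⟩
  simp [powHom, ZMod.val_one]

open Classical in
theorem Frame.Xv_single (i : Fin m) : F.Xv (Pi.single i 1) = F.x i := by
  have h : (fun j => Multiplicative.ofAdd ((Pi.single i 1 : F.L) j)) =
      Pi.mulSingle (M := fun j => Multiplicative (ZMod (F.r j))) i (Multiplicative.ofAdd 1) := by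
    funext j
    by_cases e : j = i
    · subst e; simp
    · simp [e]
  rw [Frame.Xv, h, Frame.xHom, MonoidHom.noncommPiCoprod_mulSingle]
  haveI : Fact (1 < F.r i) := ⟨(F.hr i).one_lt⟩
  simp [powHom, ZMod.val_one]

theorem Frame.yHom_range_le {H : Subgroup D.B} (h : ∀ i, F.y i ∈ H) (a : F.L) : F.Y a ∈ H := by
  have : F.yHom.range ≤ H := by
    rw [Frame.yHom, MonoidHom.noncommPiCoprod_range]
    exact iSup_le fun i => by rintro _ ⟨t, rfl⟩; exact H.pow_mem (h i) _
  exact this ⟨_, rfl⟩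

theorem Frame.xHom_range_le {H : Subgroup D.B} (h : ∀ i, F.x i ∈ H) (a : F.L) : F.Xv a ∈ H := by
  have : F.xHom.range ≤ H := by
    rw [Frame.xHom, MonoidHom.noncommPiCoprod_range]
    exact iSup_le fun i => by rintro _ ⟨t, rfl⟩; exact H.pow_mem (h i) _
  exact this ⟨_, rfl⟩

/-- Commutation with a fixed element, as a homomorphism. -/
noncomputable def comHom (D : BData k V G) (b : D.B) : D.B →* kˣ where
  toFun := D.com b
  map_one' := D.com_one_right b
  map_mul' := D.com_mul_right b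

theorem Frame.com_Y (b : D.B) (a : F.L) :
    D.com b (F.Y a) = ∏ i, D.com b (F.y i) ^ (a i).val := by
  show comHom D b (F.Y a) = _
  rw [Frame.Y, Frame.yHom]
  simp only [MonoidHom.noncommPiCoprod, MonoidHom.coe_mk, OneHom.coe_mk]
  exact (Finset.map_noncommProd _ _ _ (comHom D b)).trans ((Finset.noncommProd_eq_prod _ _).trans
    (Finset.prod_congr rfl fun i _ => map_pow (comHom D b) _ _))

theorem Frame.com_Xv (b : D.B) (a : F.L) :
    D.com b (F.Xv a) = ∏ i, D.com b (F.x i) ^ (a i).val := by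
  show comHom D b (F.Xv a) = _
  rw [Frame.Xv, Frame.xHom]
  simp only [MonoidHom.noncommPiCoprod, MonoidHom.coe_mk, OneHom.coe_mk]
  exact (Finset.map_noncommProd _ _ _ (comHom D b)).trans ((Finset.noncommProd_eq_prod _ _).trans
    (Finset.prod_congr rfl fun i _ => map_pow (comHom D b) _ _))

theorem Frame.com_x_Y (i : Fin m) (a : F.L) : D.com (F.x i) (F.Y a) = F.ζ i ^ (a i).val := by
  rw [F.com_Y, Finset.prod_eq_single i (fun j _ hj => by rw [F.hoff i j (Ne.symm hj), one_pow])
    (by simp), F.hxy]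

theorem Frame.com_Xv_y (a : F.L) (i : Fin m) : D.com (F.Xv a) (F.y i) = F.ζ i ^ (a i).val := by
  rw [D.com_swap (F.y i), F.com_Xv, Finset.prod_eq_single i
    (fun j _ hj => by rw [D.com_swap (F.x j), F.hoff j i hj, inv_one, one_pow]) (by simp),
    D.com_swap (F.x i), F.hxy, inv_pow, inv_inv]

theorem Frame.pow_val_inj (i : Fin m) {s t : ZMod (F.r i)}
    (h : F.ζ i ^ s.val = F.ζ i ^ t.val) : s = t :=
  ZMod.val_injective _ (pow_injOn_Iio_orderOf (by rw [F.hζ]; exact Set.mem_Iio.mpr (ZMod.val_lt s))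
    (by rw [F.hζ]; exact Set.mem_Iio.mpr (ZMod.val_lt t)) h)

theorem Frame.Y_injective : Function.Injective F.Y := by
  intro a b h
  funext i
  exact F.pow_val_inj i (by rw [← F.com_x_Y, ← F.com_x_Y, h])

theorem Frame.decompose (b : D.B) :
    ∃ (a : F.L) (β : F.L) (c : D.B), c ∈ F.C ∧ b = F.Y a * F.Xv β * c := by
  have hs : ∀ i, ∃ s : ℕ, D.com (F.x i) b = F.ζ i ^ s := fun i =>
    mem_powers_of_prime (F.hr i) (F.hζ i) (by rw [← D.com_pow_left, F.hx, D.com_one_left])
  have ht : ∀ i, ∃ t : ℕ, D.com b (F.y i) = F.ζ i ^ t := fun i =>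
    mem_powers_of_prime (F.hr i) (F.hζ i) (by rw [← D.com_pow_right, F.hy, D.com_one_right])
  choose s hs using hs
  choose t ht using ht
  let a : F.L := fun i => (s i : ZMod (F.r i))
  let β : F.L := fun i => (t i : ZMod (F.r i))
  have hsa : ∀ i, F.ζ i ^ (a i).val = F.ζ i ^ s i := fun i => by
    rw [ZMod.val_natCast]; conv_rhs => rw [← pow_mod_orderOf, F.hζ]
  have htb : ∀ i, F.ζ i ^ (β i).val = F.ζ i ^ t i := fun i => by
    rw [ZMod.val_natCast]; conv_rhs => rw [← pow_mod_orderOf, F.hζ]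
  refine ⟨a, β, (F.Y a * F.Xv β)⁻¹ * b, F.mem_C.mpr fun i => ⟨?_, ?_⟩,
    (mul_inv_cancel_left _ _).symm⟩
  · have h1 : D.com (F.x i) (F.Y a * F.Xv β) = D.com (F.x i) b := by
      rw [D.com_mul_right, F.com_x_Y, hsa, ← hs, F.com_Xv,
        Finset.prod_eq_one (fun j _ => by rw [F.hxx, one_pow]), mul_one]
    rw [D.com_mul_right, ← h1, ← D.com_mul_right, inv_mul_cancel, D.com_one_right]
  · have h1 : D.com (F.y i) (F.Y a * F.Xv β) = D.com (F.y i) b := by
      rw [D.com_mul_right, F.com_Y, Finset.prod_eq_one (fun j _ => by rw [F.hyy, one_pow]),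
        one_mul, D.com_swap (F.Xv β), F.com_Xv_y, htb, ← ht, ← D.com_swap]
    rw [D.com_mul_right, ← h1, ← D.com_mul_right, inv_mul_cancel, D.com_one_right]

/-- Fixed by all the `x`s. -/
def Frame.Fixed (v : V) : Prop := ∀ i, F.x i • v = v

variable {F}

theorem Frame.Fixed.Xv {v : V} (hv : F.Fixed v) (β : F.L) : F.Xv β • v = v :=
  F.xHom_range_le (H := MulAction.stabilizer D.B v) hv β

theorem Frame.Fixed.C {v : V} (hv : F.Fixed v) {c : D.B} (hc : c ∈ F.C) : F.Fixed (c • v) :=
  fun i => by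
    rw [← mul_smul, (D.com_eq_one_iff _ _).mp (F.mem_C.mp hc i).1, mul_smul, hv i]

theorem Frame.Fixed.smul_k {v : V} (hv : F.Fixed v) (e : k) : F.Fixed (e • v) :=
  fun i => by rw [D.smul_k, hv i]

theorem Frame.Fixed.add {v w : V} (hv : F.Fixed v) (hw : F.Fixed w) : F.Fixed (v + w) :=
  fun i => by rw [smul_add, hv i, hw i]

variable (F)

theorem Frame.fixed_zero : F.Fixed (0 : V) := fun _ => smul_zero _

theorem Frame.natCast_ne_zero (i : Fin m) : ((F.r i : ℕ) : k) ≠ 0 := by
  intro h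
  haveI : Fintype k := Fintype.ofFinite k
  have hd : F.r i ∣ Nat.card k - 1 := prime_dvd_card_sub_one (F.hr i)
    (c := F.ζ i) (by rw [← F.hζ]; exact pow_orderOf_eq_one _)
    (fun e => by have := F.hζ i; rw [e, orderOf_one] at this; exact (F.hr i).one_lt.ne this)
  obtain ⟨p, hp⟩ := CharP.exists k
  haveI := hp
  obtain ⟨n, hpp, hcard⟩ := FiniteField.card k p
  have hpr : p = F.r i := (Nat.prime_dvd_prime_iff_eq hpp (F.hr i)).mp ((CharP.cast_eq_zero_iff k p _).mp h)
  rw [← Nat.card_eq_fintype_card] at hcard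
  rw [hcard, ← hpr] at hd
  obtain ⟨t, ht⟩ : p ∣ p ^ (n : ℕ) := dvd_pow_self p n.pos.ne'
  have h1 : 1 ≤ p ^ (n : ℕ) := Nat.one_le_pow _ _ hpp.pos
  have := (Nat.dvd_sub ⟨t, ht⟩ hd)
  rw [show p ^ (n : ℕ) - (p ^ (n : ℕ) - 1) = 1 by omega, Nat.dvd_one] at this
  exact hpp.one_lt.ne' this

theorem Frame.geom (i : Fin m) (a : ℕ) :
    ∑ t ∈ Finset.range (F.r i), ((F.ζ i : k) ^ a) ^ t =
      if (a : ZMod (F.r i)) = 0 then (F.r i : k) else 0 := by
  by_cases h : (a : ZMod (F.r i)) = 0
  · rw [if_pos h]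
    rw [ZMod.natCast_eq_zero_iff] at h
    have h1 : (F.ζ i : k) ^ a = 1 := by
      rw [← Units.val_pow_eq_pow_val, orderOf_dvd_iff_pow_eq_one.mp (by rw [F.hζ]; exact h),
        Units.val_one]
    simp [h1]
  · rw [if_neg h]
    rw [ZMod.natCast_eq_zero_iff] at h
    have h1 : (F.ζ i : k) ^ a ≠ 1 := by
      rw [← Units.val_pow_eq_pow_val, ne_eq, Units.val_eq_one, ← orderOf_dvd_iff_pow_eq_one, F.hζ]
      exact h
    rw [geom_sum_eq h1, ← pow_mul, mul_comm, pow_mul]
    have h2 : (F.ζ i : k) ^ F.r i = 1 := by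
      rw [← Units.val_pow_eq_pow_val, ← F.hζ i, pow_orderOf_eq_one, Units.val_one]
    rw [h2, one_pow, sub_self, zero_div]

theorem Frame.exists_fixed : ∃ v : V, v ≠ 0 ∧ F.Fixed v := by
  classical
  suffices ∀ T : Finset (Fin m), ∃ v : V, v ≠ 0 ∧ ∀ i ∈ T, F.x i • v = v by
    obtain ⟨v, h1, h2⟩ := this Finset.univ
    exact ⟨v, h1, fun i => h2 i (Finset.mem_univ i)⟩
  intro T
  induction T using Finset.induction_on with
  | empty =>
    obtain ⟨v, hv⟩ := D.toSemi.nonzero
    exact ⟨v, hv, by simp⟩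
  | @insert n T hn ih =>
    obtain ⟨v, hv0, hv⟩ := ih
    let R := F.r n
    let P : ℕ → V := fun a => ∑ t ∈ Finset.range R, (F.x n ^ t * F.y n ^ a) • v
    have hfix : ∀ a i, i ∈ insert n T → F.x i • P a = P a := by
      intro a i hi
      simp only [P, Finset.smul_sum, ← mul_smul]
      rcases Finset.mem_insert.mp hi with h | h
      · rw [h]
        have hstep : ∀ t, F.x n * (F.x n ^ t * F.y n ^ a) = F.x n ^ (t + 1) * F.y n ^ a :=
          fun t => by rw [← mul_assoc, ← pow_succ']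
        simp only [hstep]
        have h1 := Finset.sum_range_succ' (fun t => (F.x n ^ t * F.y n ^ a) • v) R
        have h2 := Finset.sum_range_succ (fun t => (F.x n ^ t * F.y n ^ a) • v) R
        rw [h1, F.hx n, pow_zero] at h2
        exact add_right_cancel h2
      · have hne : i ≠ n := fun e => hn (e ▸ h)
        refine Finset.sum_congr rfl fun t _ => ?_
        have hc : Commute (F.x i) (F.x n ^ t * F.y n ^ a) :=
          ((F.commute_x i n).pow_right t).mul_right
            (Commute.pow_right (show Commute (F.x i) (F.y n) from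
              (D.com_eq_one_iff _ _).mp (F.hoff i n hne)) a)
        rw [hc.eq, mul_smul, hv i h]
    by_contra hcon
    simp only [not_exists, not_and] at hcon
    have hP0 : ∀ a, P a = 0 := fun a => by
      by_contra hne
      exact hcon _ hne (hfix a)
    have hterm : ∀ a t : ℕ, ((F.y n ^ a)⁻¹ * (F.x n ^ t * F.y n ^ a)) • v =
        ((F.ζ n : k) ^ t) ^ a • (F.x n ^ t • v) := by
      intro a t
      have h1 : F.x n ^ t * F.y n ^ a =
          D.z (F.ζ n ^ (t * a)) * (F.y n ^ a * F.x n ^ t) := by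
        rw [D.com_spec (F.x n ^ t) (F.y n ^ a), D.com_pow_left, D.com_pow_right, F.hxy, ← pow_mul,
          mul_comm a t]
      rw [h1, ← mul_assoc, ← D.z_comm, mul_assoc, inv_mul_cancel_left, mul_smul, D.z_smul,
        Units.val_pow_eq_pow_val, pow_mul]
    have hsum : ∑ a ∈ Finset.range R, (F.y n ^ a)⁻¹ • P a = (R : k) • v := by
      simp only [P, Finset.smul_sum, ← mul_smul, hterm]
      rw [Finset.sum_comm]
      simp only [← Finset.sum_smul, F.geom n]
      rw [Finset.sum_eq_single 0]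
      · simp [R]
      · intro t ht ht0
        rw [show R = F.r n from rfl, F.geom n, if_neg, zero_smul]
        rw [ZMod.natCast_eq_zero_iff]
        intro hd
        have := Nat.le_of_dvd (Nat.pos_of_ne_zero ht0) hd
        simp [R] at ht
        omega
      · exact fun h => absurd (Finset.mem_range.mpr (F.hr n).pos) h
    rw [Finset.sum_eq_zero (fun a _ => by rw [hP0, smul_zero])] at hsum
    exact hv0 ((smul_eq_zero.mp hsum.symm).resolve_left (F.natCast_ne_zero n))

theorem Frame.eq_zero_of_sum {z : F.L → V} (hz : ∀ a, F.Fixed (z a))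
    (h : ∑ a, F.Y a • z a = 0) : ∀ a, z a = 0 := by
  classical
  have key : ∀ (T : Finset (Fin m)) (z : F.L → V), (∀ a, F.Fixed (z a)) →
      ∑ a, F.Y a • z a = 0 →
      ∑ a, (if ∀ i ∈ T, a i = 0 then F.Y a • z a else 0) = 0 := by
    intro T
    induction T using Finset.induction_on with
    | empty => intro z _ h; simpa using h
    | @insert n T hn ih =>
      intro z hz h
      have h' := congrArg (fun v => ∑ t ∈ Finset.range (F.r n), F.x n ^ t • v) (ih z hz h)
      simp only [smul_zero, Finset.sum_const_zero] at h'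
      simp only [Finset.smul_sum] at h'
      rw [Finset.sum_comm] at h'
      have hterm : ∀ a : F.L, ∀ t : ℕ, F.x n ^ t • (F.Y a • z a) =
          (((F.ζ n : k) ^ (a n).val) ^ t) • (F.Y a • z a) := by
        intro a t
        have hfix : F.x n ^ t • z a = z a :=
          (MulAction.stabilizer D.B (z a)).pow_mem (MulAction.mem_stabilizer_iff.mpr (hz a n)) t
        rw [← mul_smul, D.com_spec (F.x n ^ t) (F.Y a), D.com_pow_left, F.com_x_Y, mul_smul,
          D.z_smul, mul_smul, hfix, Units.val_pow_eq_pow_val, Units.val_pow_eq_pow_val]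
      have hstep : ∀ a : F.L, ∑ t ∈ Finset.range (F.r n),
          F.x n ^ t • (if ∀ i ∈ T, a i = 0 then F.Y a • z a else 0) =
            (F.r n : k) • (if ∀ i ∈ insert n T, a i = 0 then F.Y a • z a else 0) := by
        intro a
        by_cases hT : ∀ i ∈ T, a i = 0
        · simp only [if_pos hT, hterm]
          rw [← Finset.sum_smul, F.geom, ZMod.natCast_zmod_val]
          by_cases hn0 : a n = 0
          · rw [if_pos hn0, if_pos]
            intro i hi
            rcases Finset.mem_insert.mp hi with e | hi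
            · rw [e]; exact hn0
            · exact hT i hi
          · rw [if_neg hn0, if_neg fun hh => hn0 (hh n (Finset.mem_insert_self n T)),
              zero_smul, smul_zero]
        · rw [if_neg hT, if_neg fun hh => hT fun i hi => hh i (Finset.mem_insert_of_mem hi)]
          simp
      simp only [hstep, ← Finset.smul_sum] at h'
      exact (smul_eq_zero.mp h').resolve_left (F.natCast_ne_zero n)
  intro b
  have h2 := key Finset.univ (fun a => z (a + b)) (fun a => hz _) (by
    have hshift : ∑ a, F.Y a • z (a + b) = F.Y (-b) • ∑ a, F.Y a • z a := by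
      rw [Finset.smul_sum]
      refine Fintype.sum_equiv (Equiv.addRight b) _ _ fun a => ?_
      rw [← mul_smul, ← F.Y_add, Equiv.coe_addRight,
        show -b + (a + b) = a by abel]
    rw [hshift, h, smul_zero])
  rw [Finset.sum_eq_single 0] at h2
  · simpa [F.Y_zero] using h2
  · intro a _ ha
    rw [if_neg]
    exact fun hh => ha (funext fun i => hh i (Finset.mem_univ i))
  · simp

theorem Frame.coord {z z' : F.L → V} (hz : ∀ a, F.Fixed (z a)) (hz' : ∀ a, F.Fixed (z' a))
    (h : ∑ a, F.Y a • z a = ∑ a, F.Y a • z' a) (a : F.L) : z a = z' a := by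
  have h' := F.eq_zero_of_sum (z := fun a => z a - z' a) (fun a i => by
      rw [smul_sub, hz a i, hz' a i]) (by
      simp only [smul_sub, Finset.sum_sub_distrib, h, sub_self]) a
  exact sub_eq_zero.mp h'

/-- The data of the construction. -/
structure Ctx {m : ℕ} (F : D.Frame m) where
  i : D.B
  j : D.B
  quat : Quat F i j
  v1 : V
  hv1 : v1 ≠ 0
  hX : F.Fixed v1

variable {F} (E : Ctx F)

/-- The second fibre vector. -/
def Ctx.w : V := E.i • E.v1

theorem Ctx.w_ne : E.w ≠ 0 := fun h => E.hv1 (by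
  have := congrArg (E.i⁻¹ • ·) h
  simpa [Ctx.w, inv_smul_smul] using this)

theorem Ctx.w_fixed : F.Fixed E.w := E.hX.C E.quat.1

include E in
theorem Ctx.C_fix {c : D.B} (hc : c ∈ F.C) {v : V} (hv : v ≠ 0) (h : c • v = v) : c = 1 := by
  have hone : ∀ u : kˣ, D.z u • v = v → u = 1 := fun u hu => by
    rw [D.z_smul] at hu
    exact Units.ext (D.toSemi.smul_eq_imp hv (hu.trans (one_smul k v).symm))
  obtain ⟨-, -, hq⟩ := E.quat
  rcases hq with ⟨-, -, hall⟩ | ⟨hii, hjj, hij, hsq, hall⟩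
  · obtain ⟨u, rfl⟩ := hall c hc
    rw [hone u h, map_one]
  have sq_case : ∀ (u : kˣ) (w : D.B), w * w = D.z (-1) → c = D.z u * w → False := by
    intro u w hw hcw
    have h2 : (c * c) • v = v := by rw [mul_smul, h, h]
    have : c * c = D.z (u ^ 2 * -1) := by
      rw [hcw, ← sq, Commute.mul_pow (D.z_comm u w), sq w, hw, map_mul, map_pow]
    rw [this] at h2
    have := congrArg Units.val (hone _ h2)
    simp only [Units.val_mul, Units.val_pow_eq_pow_val, Units.val_neg, Units.val_one] at this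
    exact hsq (u : k) (by linear_combination -this)
  obtain ⟨u, hu | hu | hu | hu⟩ := hall c hc
  · subst hu; rw [hone u h, map_one]
  · exact (sq_case u E.i hii hu).elim
  · exact (sq_case u E.j hjj hu).elim
  · refine (sq_case u (E.i * E.j) ?_ hu).elim
    rw [← sq, mul_pow', Nat.choose_self, pow_one, D.com_swap E.i E.j, hij, inv_neg_one, sq, sq, hii,
      hjj, ← map_mul, ← map_mul]
    congr 1
    rw [neg_one_mul, neg_one_mul, neg_neg]

/-- The second vector. -/
noncomputable def Ctx.v2 : V := ∑ a : F.L, F.Y a • E.w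

theorem Ctx.stab_v1 {b : D.B} (h : b • E.v1 = E.v1) : ∃ β, b = F.Xv β := by
  classical
  obtain ⟨a, β, c, hc, rfl⟩ := F.decompose b
  have hbv : F.Y a • (c • E.v1) = E.v1 := by
    rw [← (E.hX.C hc).Xv β, ← mul_smul, ← mul_smul]
    exact h
  have h2 := F.coord (z := fun d => if d = a then c • E.v1 else 0)
    (z' := fun d => if d = 0 then E.v1 else 0)
    (fun d => by split_ifs; exacts [E.hX.C hc, F.fixed_zero])
    (fun d => by split_ifs; exacts [E.hX, F.fixed_zero])
    (by simp only [smul_ite, smul_zero, Finset.sum_ite_eq', Finset.mem_univ, if_true, F.Y_zero,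
      one_smul]; exact hbv)
  have ha : a = 0 := by
    by_contra ha
    have := h2 0
    simp only [if_pos, if_neg (Ne.symm ha)] at this
    exact E.hv1 this.symm
  subst ha
  have := h2 0
  simp only [if_pos] at this
  rw [E.C_fix hc E.hv1 this, F.Y_zero, one_mul, mul_one]
  exact ⟨β, rfl⟩

theorem Ctx.Y_v2 (a : F.L) : F.Y a • E.v2 = E.v2 := by
  rw [Ctx.v2, Finset.smul_sum]
  refine Fintype.sum_equiv (Equiv.addLeft a) _ _ fun d => ?_
  rw [← mul_smul, ← F.Y_add, Equiv.coe_addLeft]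

theorem Ctx.stab_v2 {b : D.B} (h : b • E.v2 = E.v2) : ∃ a, b = F.Y a := by
  obtain ⟨a, β, c, hc, rfl⟩ := F.decompose b
  have hbv : (F.Xv β * c) • E.v2 = E.v2 := by
    rw [mul_assoc, mul_smul] at h
    have h' := congrArg (F.Y (-a) • ·) h
    simp only [← mul_smul] at h'
    rwa [← mul_assoc, F.Y_neg_mul, one_mul, E.Y_v2] at h'
  have hz : ∀ d, (F.Xv β * c) • (F.Y d • E.w) =
      F.Y d • (((D.com (F.Xv β * c) (F.Y d) : kˣ) : k) • (c • E.w)) := by
    intro d
    rw [← mul_smul, D.com_spec (F.Xv β * c) (F.Y d), mul_smul, D.z_smul, mul_smul, mul_smul,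
      (E.w_fixed.C hc).Xv β, D.smul_k]
  have h2 := F.coord (z := fun d => ((D.com (F.Xv β * c) (F.Y d) : kˣ) : k) • (c • E.w))
    (z' := fun _ => E.w) (fun d => (E.w_fixed.C hc).smul_k _) (fun d => E.w_fixed) (by
      rw [show (∑ d, F.Y d • E.w) = E.v2 from rfl]
      refine Eq.trans ?_ hbv
      rw [Ctx.v2, Finset.smul_sum]
      simp only [hz])
  have h0 := h2 0
  simp only [F.Y_zero, D.com_one_right, Units.val_one, one_smul] at h0
  have hc1 := E.C_fix hc E.w_ne h0
  subst hc1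
  have hβ : β = 0 := by
    classical
    funext n
    refine F.pow_val_inj n ?_
    rw [Pi.zero_apply, ZMod.val_zero, pow_zero, ← F.com_Xv_y, ← F.Y_single]
    have := h2 (Pi.single n 1)
    simp only [mul_one, one_smul] at this
    exact Units.ext (D.toSemi.smul_eq_imp E.w_ne (this.trans (one_smul k _).symm))
  subst hβ
  exact ⟨a, by rw [F.Xv_zero, mul_one, mul_one]⟩

theorem Ctx.conj_mem (g : G) (b : D.B) : g * (b : G) * g⁻¹ ∈ D.B :=
  D.normal.conj_mem b b.2 g

variable {g : G} (hg1 : g • E.v1 = E.v1) (hg2 : g • E.v2 = E.v2)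

include hg1 in
theorem Ctx.conj_x (i : Fin m) : ∃ β, (⟨g * F.x i * g⁻¹, conj_mem g _⟩ : D.B) = F.Xv β := by
  refine E.stab_v1 ?_
  show (g * (F.x i : G) * g⁻¹) • E.v1 = E.v1
  have hx : ((F.x i : D.B) : G) • E.v1 = E.v1 := E.hX i
  rw [mul_smul, mul_smul, inv_smul_eq_iff.mpr hg1.symm, hx, hg1]

include hg2 in
theorem Ctx.conj_Y (a : F.L) : ∃ a', (⟨g * F.Y a * g⁻¹, conj_mem g _⟩ : D.B) = F.Y a' := by
  refine E.stab_v2 ?_
  show (g * (F.Y a : G) * g⁻¹) • E.v2 = E.v2
  have hy : ((F.Y a : D.B) : G) • E.v2 = E.v2 := E.Y_v2 a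
  rw [mul_smul, mul_smul, inv_smul_eq_iff.mpr hg2.symm, hy, hg2]

include hg1 in
theorem Ctx.smul_fixed {v : V} (hv : F.Fixed v) : F.Fixed (g • v) := by
  intro i
  have hg1' : g⁻¹ • E.v1 = E.v1 := inv_smul_eq_iff.mpr hg1.symm
  obtain ⟨β, hβ⟩ := E.conj_x hg1' i
  have h : (g⁻¹ * (F.x i : G) * g⁻¹⁻¹) • v = v := by
    rw [show g⁻¹ * (F.x i : G) * g⁻¹⁻¹ = (F.Xv β : G) from congrArg Subtype.val hβ]
    exact hv.Xv β
  rw [inv_inv, mul_smul, mul_smul, inv_smul_eq_iff] at h
  exact h

theorem Ctx.conj_com (g : G) (a b : D.B) :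
    D.com ⟨g * a * g⁻¹, conj_mem g a⟩ ⟨g * b * g⁻¹, conj_mem g b⟩ =
      Units.map (D.σ g).toMonoidHom (D.com a b) := by
  refine D.com_unique (Subtype.ext ?_)
  simp only [Subgroup.coe_mul, z_val]
  rw [← D.toSemi.conj_sc]
  have := congrArg Subtype.val (D.com_spec a b)
  simp only [Subgroup.coe_mul, z_val] at this
  calc g * (a : G) * g⁻¹ * (g * b * g⁻¹) = g * ((a : G) * b) * g⁻¹ := by group
    _ = _ := by rw [this]; group

include hg1 hg2 in
theorem Ctx.conj_C {c : D.B} (hc : c ∈ F.C) :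
    (⟨g * c * g⁻¹, conj_mem g c⟩ : D.B) ∈ F.C := by
  classical
  have hg1' : g⁻¹ • E.v1 = E.v1 := inv_smul_eq_iff.mpr hg1.symm
  have hg2' : g⁻¹ • E.v2 = E.v2 := inv_smul_eq_iff.mpr hg2.symm
  refine Subgroup.mem_centralizer_iff.mpr ?_
  have hc' : ∀ b ∈ Set.range F.x ∪ Set.range F.y, Commute b c := fun b hb =>
    Subgroup.mem_centralizer_iff.mp hc b hb
  rintro b hb
  obtain ⟨b', hb', hcomm⟩ : ∃ b' : D.B, (b' : G) = g⁻¹ * b * g⁻¹⁻¹ ∧ Commute b' c := by
    rcases hb with ⟨i, rfl⟩ | ⟨i, rfl⟩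
    · obtain ⟨β, hβ⟩ := E.conj_x hg1' i
      refine ⟨F.Xv β, (congrArg Subtype.val hβ).symm, ?_⟩
      exact (Subgroup.mem_centralizer_singleton_iff.mp (F.xHom_range_le
        (H := Subgroup.centralizer {c}) (fun n => Subgroup.mem_centralizer_singleton_iff.mpr
          (hc' _ (Or.inl ⟨n, rfl⟩))) β) : _)
    · obtain ⟨a, ha⟩ := E.conj_Y hg2' (Pi.single i 1)
      refine ⟨F.Y a, ?_, ?_⟩
      · have := congrArg Subtype.val ha
        rw [F.Y_single] at this
        exact this.symm
      exact (Subgroup.mem_centralizer_singleton_iff.mp (F.yHom_range_le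
        (H := Subgroup.centralizer {c}) (fun n => Subgroup.mem_centralizer_singleton_iff.mpr
          (hc' _ (Or.inr ⟨n, rfl⟩))) a) : _)
  have h := congrArg Subtype.val hcomm.eq
  simp only [Subgroup.coe_mul, hb', inv_inv] at h
  refine Subtype.ext ?_
  simp only [Subgroup.coe_mul]
  calc (b : G) * (g * c * g⁻¹) = g * ((g⁻¹ * b * g) * c) * g⁻¹ := by group
    _ = g * ((c : G) * (g⁻¹ * b * g)) * g⁻¹ := by rw [h]
    _ = g * c * g⁻¹ * b := by group

include hg1 hg2 in
theorem Ctx.smul_w : g • E.w = E.w := by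
  choose f hf using fun a => E.conj_Y hg2 a
  have hinj : Function.Injective f := fun a b e => F.Y_injective (Subtype.ext (by
    have h := congrArg Subtype.val ((hf a).trans ((congrArg F.Y e).trans (hf b).symm))
    exact mul_left_cancel (mul_right_cancel h)))
  let e : F.L ≃ F.L := Equiv.ofBijective f hinj.bijective_of_finite
  have h : g • E.v2 = ∑ a, F.Y a • (g • E.w) := by
    rw [Ctx.v2, Finset.smul_sum]
    refine Fintype.sum_equiv e _ _ fun a => ?_
    show g • ((F.Y a : G) • E.w) = ((F.Y (f a) : D.B) : G) • (g • E.w)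
    rw [← mul_smul, ← mul_smul, ← congrArg Subtype.val (hf a), inv_mul_cancel_right]
  rw [hg2, Ctx.v2] at h
  exact (F.coord (fun _ => E.w_fixed) (fun _ => E.smul_fixed hg1 E.w_fixed) h 0).symm

theorem Ctx.finish (hg1 : g • E.v1 = E.v1) (hg2 : g • E.v2 = E.v2) (hσ : D.σ g = 1)
    (hY : ∀ i, g * (F.y i : G) = F.y i * g) (hj : g • (E.j • E.v1) = E.j • E.v1) : g = 1 := by
  classical
  have hfix : ∀ c ∈ F.C, g • (c • E.v1) = c • E.v1 → g * (c : G) = c * g := by
    intro c hc hcv
    let c' : D.B := ⟨g * c * g⁻¹, conj_mem g c⟩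
    have hc' : c' ∈ F.C := E.conj_C hg1 hg2 hc
    have hcv' : c' • E.v1 = c • E.v1 := by
      show (g * (c : G) * g⁻¹) • E.v1 = _
      rw [mul_smul, mul_smul, inv_smul_eq_iff.mpr hg1.symm]
      exact hcv
    have h := E.C_fix (F.C.mul_mem (F.C.inv_mem hc) hc') E.hv1
      (by rw [mul_smul, hcv', inv_smul_smul])
    have h' : g * (c : G) * g⁻¹ = c := congrArg Subtype.val (inv_mul_eq_one.mp h).symm
    rw [mul_inv_eq_iff_eq_mul] at h'
    exact h'
  have hi : g * (E.i : G) = E.i * g := hfix _ E.quat.1 (E.smul_w hg1 hg2)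
  have hj' : g * (E.j : G) = E.j * g := hfix _ E.quat.2.1 hj
  have hx : ∀ i, g * (F.x i : G) = F.x i * g := by
    intro i
    obtain ⟨β, hβ⟩ := E.conj_x hg1 i
    have hy' : ∀ n, (⟨g * F.y n * g⁻¹, conj_mem g _⟩ : D.B) = F.y n := fun n =>
      Subtype.ext (by simp only; rw [hY n, mul_inv_cancel_right])
    have hc : F.Xv β * (F.x i)⁻¹ ∈ F.C := by
      refine F.mem_C.mpr fun n => ⟨?_, ?_⟩
      · rw [D.com_eq_one_iff]
        have hcx : Commute (F.Xv β) (F.x n) := Subgroup.mem_centralizer_singleton_iff.mp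
          (F.xHom_range_le (H := Subgroup.centralizer {F.x n})
            (fun l => Subgroup.mem_centralizer_singleton_iff.mpr (F.commute_x l n).eq) β)
        exact hcx.symm.mul_right (F.commute_x n i).inv_right
      · have h := conj_com g (F.y n) (F.x i)
        rw [hy' n, hβ, hσ] at h
        have h' : D.com (F.y n) (F.Xv β) = D.com (F.y n) (F.x i) := h.trans (Units.ext rfl)
        rw [D.com_mul_right, h', ← D.com_mul_right, mul_inv_cancel, D.com_one_right]
    have h := E.C_fix hc E.hv1 (by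
      rw [mul_smul, inv_smul_eq_iff.mpr (E.hX i).symm, E.hX.Xv])
    have h' := congrArg Subtype.val hβ
    rw [mul_inv_eq_one.mp h] at h'
    simp only at h'
    rw [mul_inv_eq_iff_eq_mul] at h'
    exact h'
  -- `g` centralises `B`
  have hcent : ∀ b : D.B, g * (b : G) = b * g := by
    let H : Subgroup D.B := (Subgroup.centralizer {g}).comap D.B.subtype
    have hH : ∀ b : D.B, b ∈ H ↔ g * (b : G) = b * g := fun b => by
      rw [Subgroup.mem_comap, Subgroup.mem_centralizer_singleton_iff]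
      exact eq_comm
    intro b
    rw [← hH]
    obtain ⟨a, β, c, hc, rfl⟩ := F.decompose b
    refine H.mul_mem (H.mul_mem (F.yHom_range_le (fun n => (hH _).mpr (hY n)) a)
      (F.xHom_range_le (fun n => (hH _).mpr (hx n)) β)) ?_
    have hzH : ∀ u, D.z u ∈ H := fun u => (hH _).mpr (D.toSemi.sc_comm hσ u)
    obtain ⟨-, -, hq⟩ := E.quat
    have hiH := (hH _).mpr hi
    have hjH := (hH _).mpr hj'
    rcases hq with ⟨-, -, hall⟩ | ⟨-, -, -, -, hall⟩
    · obtain ⟨u, rfl⟩ := hall c hc; exact hzH u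
    · obtain ⟨u, rfl | rfl | rfl | rfl⟩ := hall c hc
      · exact hzH u
      · exact H.mul_mem (hzH u) hiH
      · exact H.mul_mem (hzH u) hjH
      · exact H.mul_mem (hzH u) (H.mul_mem hiH hjH)
  obtain ⟨u, rfl⟩ := D.cent g (D.toSemi.mem_lin.mpr hσ) fun b hb => hcent ⟨b, hb⟩
  rw [D.sc_smul] at hg1
  have hu : u = 1 := Units.ext (D.toSemi.smul_eq_imp E.hv1 (hg1.trans (one_smul k _).symm))
  rw [hu, map_one]

/-- `j • v1` when outside the span of `v1` and `w`. -/
def Ctx.InSpan (v : V) : Prop := ∃ a b : k, v = a • E.v1 + b • E.w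

open Classical in
noncomputable def Ctx.j0 : V := if E.InSpan (E.j • E.v1) then 0 else E.j • E.v1

theorem Ctx.j0_fixed : F.Fixed E.j0 := by
  rw [Ctx.j0]
  split_ifs
  exacts [F.fixed_zero, E.hX.C E.quat.2.1]

include hg1 hg2 in
theorem Ctx.smul_j0 {a b : k} (h : g • E.j0 = E.j0 + (a • E.v1 + b • E.w)) :
    g • E.j0 = E.j0 ∧ a • E.v1 + b • E.w = 0 := by
  suffices g • E.j0 = E.j0 by
    refine ⟨this, ?_⟩
    rw [this] at h
    exact (left_eq_add.mp h)
  by_cases hsp : E.InSpan (E.j • E.v1)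
  · simp [Ctx.j0, hsp]
  rw [Ctx.j0, if_neg hsp] at h ⊢
  let c : D.B := ⟨g * E.j * g⁻¹, conj_mem g _⟩
  have hc : c ∈ F.C := E.conj_C hg1 hg2 E.quat.2.1
  have hcv : c • E.v1 = g • (E.j • E.v1) := by
    show (g * (E.j : G) * g⁻¹) • E.v1 = _
    rw [mul_smul, mul_smul, inv_smul_eq_iff.mpr hg1.symm]
    rfl
  rw [← hcv] at h ⊢
  obtain ⟨-, -, hq⟩ := E.quat
  rcases hq with ⟨-, hj1, -⟩ | ⟨hii, -, -, hsq, hall⟩
  · exact absurd ⟨1, 0, by rw [hj1, one_smul, one_smul, zero_smul, add_zero]⟩ hsp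
  obtain ⟨u, hu | hu | hu | hu⟩ := hall c hc
  · rw [hu, D.z_smul] at h
    refine absurd ⟨(u : k) - a, -b, ?_⟩ hsp
    generalize E.j • E.v1 = J at h ⊢
    linear_combination (norm := module) -h
  · rw [hu, mul_smul, D.z_smul, show E.i • E.v1 = E.w from rfl] at h
    refine absurd ⟨-a, (u : k) - b, ?_⟩ hsp
    generalize E.j • E.v1 = J at h ⊢
    linear_combination (norm := module) -h
  · rw [hu, mul_smul, D.z_smul] at h ⊢
    by_cases hu1 : (u : k) = 1
    · rw [hu1, one_smul]
    · refine absurd ⟨((u : k) - 1)⁻¹ * a, ((u : k) - 1)⁻¹ * b, ?_⟩ hsp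
      have h' : ((u : k) - 1) • (E.j • E.v1) = a • E.v1 + b • E.w := by
        rw [sub_smul, one_smul, h, add_sub_cancel_left]
      rw [mul_smul, mul_smul, ← smul_add, ← h', inv_smul_smul₀ (sub_ne_zero.mpr hu1)]
  · rw [hu, mul_smul, mul_smul, D.z_smul] at h
    have hi2 : ∀ v : V, E.i • (E.i • v) = -v := fun v => by
      rw [← mul_smul, hii, D.z_smul, Units.val_neg, Units.val_one, neg_smul, one_smul]
    have h2 := congrArg (E.i • ·) h
    have hiw : E.i • E.w = -E.v1 := hi2 E.v1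
    simp only [smul_add, D.smul_k, hi2, hiw, show E.i • E.v1 = E.w from rfl] at h2
    have hne : 1 + (u : k) ^ 2 ≠ 0 := fun e => hsq (u : k) (by linear_combination e)
    have h3 : (1 + (u : k) ^ 2) • (E.j • E.v1) =
        ((u : k) * b - a) • E.v1 + (-((u : k) * a) - b) • E.w := by
      generalize E.i • E.j • E.v1 = I at h h2
      generalize E.j • E.v1 = J at h h2 ⊢
      linear_combination (norm := module) -h - (u : k) • h2
    refine absurd ⟨(1 + (u : k) ^ 2)⁻¹ * ((u : k) * b - a),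
      (1 + (u : k) ^ 2)⁻¹ * (-((u : k) * a) - b), ?_⟩ hsp
    rw [mul_smul, mul_smul, ← smul_add, ← h3, inv_smul_smul₀ hne]

open Classical in
/-- The third vector. -/
noncomputable def Ctx.v3 (z0 : V) (c : F.L → k) : V :=
  ∑ a, F.Y a • if a = 0 then z0 else c a • E.v1

theorem Ctx.j_fix (hg1 : g • E.v1 = E.v1) (hg2 : g • E.v2 = E.v2) (hσ : D.σ g = 1)
    (hj0 : g • E.j0 = E.j0) : g • (E.j • E.v1) = E.j • E.v1 := by
  by_cases hsp : E.InSpan (E.j • E.v1)
  · obtain ⟨a, b, h⟩ := hsp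
    rw [h, smul_add, D.smul_smul', D.smul_smul', hσ, hg1, E.smul_w hg1 hg2]
    rfl
  · rwa [Ctx.j0, if_neg hsp] at hj0

end BData

end Cfsg.Agent.BaseSize
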