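import Cfsg.Agent.BaseSize.Prim

/-!
# The primitive case of the base-size-three theorem
-/

set_option autoImplicit false
set_option linter.style.haveILetI false
set_option linter.unusedSectionVars false
set_option linter.unusedSimpArgs false

open Finset

namespace Cfsg.Agent.BaseSize

namespace BData

variable {k V G : Type*} [Field k] [AddCommGroup V] [Module k V] [Group G]
  [DistribMulAction G V] {D : BData k V G} [Finite k] [Finite G] [Finite V]
  {m : ℕ} {F : D.Frame m} (E : Ctx F)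

theorem Ctx.indep (hm : m = 0) (hBU : ∃ b : D.B, ∀ u, b ≠ D.z u) :
    (∀ e : k, e ^ 2 ≠ -1) ∧ ∀ a b : k, a • E.v1 + b • E.w = 0 → a = 0 ∧ b = 0 := by
  obtain ⟨-, -, hq⟩ := E.quat
  rcases hq with ⟨-, -, hall⟩ | ⟨hii, -, -, hsq, -⟩
  · exfalso
    subst hm
    obtain ⟨b, hb⟩ := hBU
    obtain ⟨u, hu⟩ := hall b (F.mem_C.mpr fun i => i.elim0)
    exact hb u hu
  refine ⟨hsq, fun a b h => ?_⟩
  have hi2 : E.i • E.w = -E.v1 := by
    rw [Ctx.w, ← mul_smul, hii, D.z_smul, Units.val_neg, Units.val_one, neg_smul, one_smul]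
  have h2 := congrArg (E.i • ·) h
  simp only [smul_add, D.smul_k, hi2, smul_zero, show E.i • E.v1 = E.w from rfl] at h2
  have h3 : (a ^ 2 + b ^ 2) • E.v1 = 0 := by
    linear_combination (norm := module) a • h - b • h2
  have h4 : a ^ 2 + b ^ 2 = 0 := (smul_eq_zero.mp h3).resolve_right E.hv1
  have hb : b = 0 := by
    by_contra hb
    exact hsq (a / b) (by rw [div_pow, div_eq_iff (pow_ne_zero 2 hb)]; linear_combination h4)
  subst hb
  refine ⟨?_, rfl⟩
  rw [zero_smul, add_zero] at h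
  exact (smul_eq_zero.mp h).resolve_right E.hv1

theorem Ctx.exists_perm {g : G} (hg2 : g • E.v2 = E.v2) :
    ∃ h : F.L ≃+ F.L, ∀ a, g * (F.Y a : G) = F.Y (h a) * g := by
  choose f hf using fun a => E.conj_Y hg2 a
  have hf' : ∀ a, g * (F.Y a : G) * g⁻¹ = F.Y (f a) := fun a => congrArg Subtype.val (hf a)
  have hadd : ∀ a b, f (a + b) = f a + f b := fun a b => by
    refine F.Y_injective (Subtype.ext ?_)
    rw [F.Y_add, Subgroup.coe_mul, ← hf', ← hf', ← hf', F.Y_add, Subgroup.coe_mul]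
    group
  have hinj : Function.Injective f := fun a b e => F.Y_injective (Subtype.ext (by
    have h := (hf' a).trans ((congrArg (fun d => ((F.Y d : D.B) : G)) e).trans (hf' b).symm)
    exact mul_left_cancel (mul_right_cancel h)))
  refine ⟨{ Equiv.ofBijective f hinj.bijective_of_finite with map_add' := hadd }, fun a => ?_⟩
  exact mul_inv_eq_iff_eq_mul.mp (hf' a)

/-- The subgroup fixing the first two vectors. -/
noncomputable def Ctx.K : Subgroup G := MulAction.stabilizer G E.v1 ⊓ MulAction.stabilizer G E.v2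

/-- The induced automorphism of the index group. -/
noncomputable def Ctx.perm (g : E.K) : F.L ≃+ F.L :=
  (E.exists_perm (MulAction.mem_stabilizer_iff.mp g.2.2)).choose

theorem Ctx.perm_spec (g : E.K) (a : F.L) :
    (g : G) * (F.Y a : G) = F.Y (E.perm g a) * g :=
  (E.exists_perm (MulAction.mem_stabilizer_iff.mp g.2.2)).choose_spec a

theorem Ctx.perm_mul (g g' : E.K) (a : F.L) :
    E.perm (g * g') a = E.perm g (E.perm g' a) := by
  refine F.Y_injective (Subtype.ext (mul_right_cancel (b := ((g * g' : E.K) : G)) ?_))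
  rw [← E.perm_spec, Subgroup.coe_mul, mul_assoc, E.perm_spec g', ← mul_assoc, E.perm_spec,
    mul_assoc]

open Classical in
theorem Ctx.coord_v3 {g : G} (hg : g ∈ E.K) {z0 z0' : V} (hz : F.Fixed z0) (hz' : F.Fixed z0')
    {c c' : F.L → k} (h : g • E.v3 z0 c = E.v3 z0' c') :
    g • z0 = z0' ∧ ∀ a, a ≠ 0 → D.σ g (c a) = c' (E.perm ⟨g, hg⟩ a) := by
  have hg1 : g • E.v1 = E.v1 := hg.1
  have e : g • E.v3 z0 c = ∑ a, F.Y a • (g •
      if (E.perm ⟨g, hg⟩).symm a = 0 then z0 else c ((E.perm ⟨g, hg⟩).symm a) • E.v1) := by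
    rw [Ctx.v3, Finset.smul_sum]
    refine Fintype.sum_equiv (E.perm ⟨g, hg⟩).toEquiv _ _ fun a => ?_
    simp only [AddEquiv.toEquiv_eq_coe, AddEquiv.coe_toEquiv, AddEquiv.symm_apply_apply]
    show g • ((F.Y a : G) • (if a = 0 then z0 else c a • E.v1)) =
      ((F.Y (E.perm ⟨g, hg⟩ a) : D.B) : G) • (g • (if a = 0 then z0 else c a • E.v1))
    rw [← mul_smul, ← mul_smul, E.perm_spec ⟨g, hg⟩]
  rw [e, Ctx.v3] at h
  have hcoord := F.coord
    (fun a => E.smul_fixed hg1 (by split_ifs; exacts [hz, E.hX.smul_k _]))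
    (fun a => by split_ifs; exacts [hz', E.hX.smul_k _]) h
  refine ⟨?_, fun a ha => ?_⟩
  · have := hcoord 0
    simp only [map_zero, if_pos] at this
    exact this
  · have := hcoord (E.perm ⟨g, hg⟩ a)
    have hne : E.perm ⟨g, hg⟩ a ≠ 0 := by simpa using ha
    simp only [AddEquiv.symm_apply_apply, if_neg ha, if_neg hne, D.smul_smul', hg1] at this
    exact D.toSemi.smul_eq_imp E.hv1 this

open Classical in
/-- The first coordinate of the third vector. -/
noncomputable def Ctx.z0 (a b : k) : V := E.j0 + (a • E.v1 + b • E.w)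

theorem Ctx.z0_fixed (a b : k) : F.Fixed (E.z0 a b) :=
  E.j0_fixed.add ((E.hX.smul_k a).add (E.w_fixed.smul_k b))

theorem Ctx.z0_map {g : G} (hg1 : g • E.v1 = E.v1) (hg2 : g • E.v2 = E.v2) {a b a' b' : k}
    (h : g • E.z0 a b = E.z0 a' b') :
    g • E.j0 = E.j0 ∧ D.σ g a • E.v1 + D.σ g b • E.w = a' • E.v1 + b' • E.w := by
  rw [Ctx.z0, Ctx.z0, smul_add, smul_add, D.smul_smul', D.smul_smul', hg1,
    E.smul_w hg1 hg2] at h
  have h1 : g • E.j0 = E.j0 + ((a' - D.σ g a) • E.v1 + (b' - D.σ g b) • E.w) := by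
    generalize g • E.j0 = J at h ⊢
    linear_combination (norm := module) h
  obtain ⟨hj, h2⟩ := E.smul_j0 hg1 hg2 h1
  refine ⟨hj, ?_⟩
  linear_combination (norm := module) -h2

theorem Ctx.finish' {g : G} (hg : g ∈ E.K) (hσ : ∀ t, D.σ g t = t)
    (hperm : ∀ a, E.perm ⟨g, hg⟩ a = a) (hj0 : g • E.j0 = E.j0) : g = 1 := by
  classical
  have hσ' : D.σ g = 1 := RingEquiv.ext hσ
  refine E.finish hg.1 hg.2 hσ' (fun i => ?_) (E.j_fix hg.1 hg.2 hσ' hj0)
  have := E.perm_spec ⟨g, hg⟩ (Pi.single i 1)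
  rwa [hperm, F.Y_single] at this

include E in
/-- The case of a frame with at least one pair. -/
theorem Ctx.five_pos (hsol : Group.IsSolvable G) (hm : 1 ≤ m) : FiveBase G V := by
  classical
  haveI : Fintype k := Fintype.ofFinite k
  haveI := hsol
  have hdvd : ∀ i, F.r i ∣ Nat.card k - 1 := fun i =>
    prime_dvd_card_sub_one (F.hr i) (c := F.ζ i) (by rw [← F.hζ]; exact pow_orderOf_eq_one _)
      (fun e => by have := F.hζ i; rw [e, orderOf_one] at this; exact (F.hr i).one_lt.ne this)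
  have hq : 3 ≤ Nat.card k := by
    have h2 := (F.hr ⟨0, hm⟩).two_le
    have hk1 : 1 < Nat.card k := Finite.one_lt_card
    have := Nat.le_of_dvd (by omega) (hdvd ⟨0, hm⟩)
    omega
  obtain ⟨c, hc, hzero⟩ := Colour.exists_good (K := E.K) inferInstance hm F.hr hdvd E.perm
    (fun a b x => E.perm_mul a b x) (fun g => D.σ (g : G))
  have key : ∀ (s t : k) (g : G), g • E.v1 = E.v1 → g • E.v2 = E.v2 →
      g • E.v3 (E.z0 s 0) c = E.v3 (E.z0 t 0) c → s = t ∧ g = 1 := by
    intro s t g hg1 hg2 h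
    have hg : g ∈ E.K := ⟨hg1, hg2⟩
    obtain ⟨hz, hcol⟩ := E.coord_v3 hg (E.z0_fixed _ _) (E.z0_fixed _ _) h
    obtain ⟨hperm, hσ⟩ := hc ⟨g, hg⟩ hcol
    obtain ⟨hj, h2⟩ := E.z0_map hg1 hg2 hz
    simp only at hσ
    rw [hσ, map_zero, zero_smul, add_zero, add_zero] at h2
    exact ⟨D.toSemi.smul_eq_imp E.hv1 h2, E.finish' hg hσ hperm hj⟩
  by_cases h5 : 5 ≤ Nat.card k
  · refine fiveBase_of_card h5 (fun s => (E.v1, E.v2, E.v3 (E.z0 s 0) c)) fun s t g h => ?_
    simp only [Prod.smul_mk, Prod.mk.injEq] at h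
    exact key s t g h.1 h.2.1 h.2.2
  obtain ⟨a0, ha0, hca0⟩ := hzero (by omega)
  have swap : ∀ (s : k) (g : G), g • E.v1 = E.v1 → g • E.v2 ≠ E.v3 (E.z0 s 0) c := by
    intro s g hg1 hv
    have hd : ∀ a, ∃ b β, ∃ c' ∈ F.C,
        (⟨g * F.Y a * g⁻¹, conj_mem g _⟩ : D.B) = F.Y b * F.Xv β * c' := fun a => by
      obtain ⟨b, β, c', hc', e⟩ := F.decompose (⟨g * F.Y a * g⁻¹, conj_mem g _⟩ : D.B)
      exact ⟨b, β, c', hc', e⟩
    choose b β c' hc' he using hd
    have hw : F.Fixed (g • E.w) := E.smul_fixed hg1 E.w_fixed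
    have hw0 : g • E.w ≠ 0 := by
      intro e
      rw [smul_eq_iff_eq_inv_smul, smul_zero] at e
      exact E.w_ne e
    -- `b` is injective
    have hbinj : Function.Injective b := by
      intro a a' e
      have h1 : (⟨g * F.Y (a - a') * g⁻¹, conj_mem g _⟩ : D.B) *
          ⟨g * F.Y a' * g⁻¹, conj_mem g _⟩ = ⟨g * F.Y a * g⁻¹, conj_mem g _⟩ := by
        refine Subtype.ext ?_
        simp only [Subgroup.coe_mul]
        calc g * (F.Y (a - a') : G) * g⁻¹ * (g * F.Y a' * g⁻¹)
            = g * ((F.Y (a - a') * F.Y a' : D.B) : G) * g⁻¹ := by rw [Subgroup.coe_mul]; group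
          _ = _ := by rw [← F.Y_add, sub_add_cancel]
      have hbb : b (a - a') + b a' = b a := by
        funext i
        haveI : NeZero (F.r i) := ⟨(F.hr i).ne_zero⟩
        have hcom := congrArg (D.com (F.x i)) h1
        rw [he, he, he, D.com_mul_right] at hcom
        simp only [D.com_mul_right, (F.mem_C.mp (hc' _) i).1, F.com_x_Y, F.com_Xv, F.hxx,
          one_pow, Finset.prod_const_one, mul_one] at hcom
        refine F.pow_val_inj i ?_
        rw [← hcom, ← pow_add, Pi.add_apply, ZMod.val_add]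
        conv_rhs => rw [← pow_mod_orderOf, F.hζ]
      rw [e, add_eq_right] at hbb
      -- a conjugate of `Y d` without `Y`-part fixes the line of the fixed space
      have hd : ∀ d, b d = 0 → d = 0 := by
        intro d hd
        have hd' := congrArg Subtype.val (he d)
        rw [hd, F.Y_zero, one_mul] at hd'
        simp only at hd'
        have hfix : F.Fixed (F.Y d • E.v1) := by
          have e1 : g • (F.Y d • E.v1) = c' d • E.v1 := by
            show g • ((F.Y d : G) • E.v1) = _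
            have : (g * (F.Y d : G) * g⁻¹) • E.v1 = c' d • E.v1 := by
              rw [hd']
              show (F.Xv (β d) * c' d) • E.v1 = _
              rw [mul_smul, (E.hX.C (hc' d)).Xv]
            rw [← this, mul_smul, mul_smul, inv_smul_eq_iff.mpr hg1.symm]
          have hg1' : g⁻¹ • E.v1 = E.v1 := inv_smul_eq_iff.mpr hg1.symm
          have := E.smul_fixed hg1' (E.hX.C (hc' d))
          rwa [← e1, inv_smul_smul] at this
        funext i
        refine F.pow_val_inj i ?_
        have h' := hfix i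
        rw [← mul_smul, D.com_spec, mul_smul, D.z_smul, mul_smul, E.hX i, F.com_x_Y] at h'
        rw [Pi.zero_apply, ZMod.val_zero, pow_zero]
        refine Units.ext (D.toSemi.smul_eq_imp (v := F.Y d • E.v1) ?_ ?_)
        · intro e
          rw [smul_eq_iff_eq_inv_smul, smul_zero] at e
          exact E.hv1 e
        · rw [h', Units.val_one, one_smul]
      exact sub_eq_zero.mp (hd _ hbb)
    let eb : F.L ≃ F.L := Equiv.ofBijective b hbinj.bijective_of_finite
    have e : g • E.v2 = ∑ a, F.Y a • ((F.Xv (β (eb.symm a)) * c' (eb.symm a)) • (g • E.w)) := by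
      rw [Ctx.v2, Finset.smul_sum]
      refine Fintype.sum_equiv eb _ _ fun a => ?_
      rw [Equiv.symm_apply_apply, ← mul_smul, ← mul_assoc]
      show g • ((F.Y a : G) • E.w) = ((F.Y (b a) * F.Xv (β a) * c' a : D.B) : G) • (g • E.w)
      rw [← mul_smul, ← mul_smul, ← he, inv_mul_cancel_right]
    rw [e, Ctx.v3] at hv
    have h := F.coord (fun a => (by
      rw [mul_smul, (hw.C (hc' _)).Xv]
      exact hw.C (hc' _)))
      (fun a => by split_ifs; exacts [E.z0_fixed _ _, E.hX.smul_k _]) hv a0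
    rw [if_neg ha0, hca0, zero_smul, smul_eq_iff_eq_inv_smul, smul_zero] at h
    exact hw0 h
  refine fiveBase_of_card (O := Bool × k) (by rw [Nat.card_prod, Nat.card_eq_fintype_card (α := Bool), Fintype.card_bool]; omega)
    (fun o => cond o.1 (E.v1, E.v3 (E.z0 o.2 0) c, E.v2) (E.v1, E.v2, E.v3 (E.z0 o.2 0) c))
    fun o o' g h => ?_
  obtain ⟨_ | _, s⟩ := o <;> obtain ⟨_ | _, t⟩ := o' <;>
    simp only [cond_true, cond_false, Prod.smul_mk, Prod.mk.injEq] at h
  · obtain ⟨h1, h2⟩ := key s t g h.1 h.2.1 h.2.2; exact ⟨by rw [h1], h2⟩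
  · exact absurd h.2.1 (swap t g h.1)
  · exact absurd (by rw [← h.2.1, inv_smul_smul]) (swap s g⁻¹ (inv_smul_eq_iff.mpr h.1.symm))
  · obtain ⟨h1, h2⟩ := key s t g h.1 h.2.2 h.2.1; exact ⟨by rw [h1], h2⟩

include E in
/-- The case of an empty frame: a quaternion group. -/
theorem Ctx.five_zero (hm : m = 0) (hBU : ∃ b : D.B, ∀ u, b ≠ D.z u) : FiveBase G V := by
  classical
  subst hm
  haveI : Fintype k := Fintype.ofFinite k
  obtain ⟨hsq, hind⟩ := E.indep rfl hBU
  have hsub : ∀ a : F.L, a = 0 := fun a => funext fun i => i.elim0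
  have hq : 3 ≤ Nat.card k := by
    by_contra hlt
    have h2 : Nat.card k = 2 := by have := Finite.one_lt_card (α := k); omega
    have : (1 : k) + 1 = 0 := by
      have := FiniteField.cast_card_eq_zero k
      rw [← Nat.card_eq_fintype_card, h2, Nat.cast_ofNat, ← one_add_one_eq_two] at this
      exact this
    exact hsq 1 (by linear_combination this)
  have key : ∀ (a b a' b' : k) (g : G), g • E.v1 = E.v1 → g • E.v2 = E.v2 →
      g • E.v3 (E.z0 a b) 0 = E.v3 (E.z0 a' b') 0 →
      D.σ g a = a' ∧ D.σ g b = b' ∧ ((∀ t, D.σ g t = t) → g = 1) := by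
    intro a b a' b' g hg1 hg2 h
    have hg : g ∈ E.K := ⟨hg1, hg2⟩
    obtain ⟨hz, -⟩ := E.coord_v3 hg (E.z0_fixed _ _) (E.z0_fixed _ _) h
    obtain ⟨hj, h2⟩ := E.z0_map hg1 hg2 hz
    obtain ⟨e1, e2⟩ := hind (D.σ g a - a') (D.σ g b - b') (by
      linear_combination (norm := module) h2)
    exact ⟨sub_eq_zero.mp e1, sub_eq_zero.mp e2,
      fun hσ => E.finish' hg hσ (fun d => by rw [hsub (E.perm _ d), hsub d]) hj⟩
  by_cases h5 : 5 ≤ Nat.card k
  · obtain ⟨γ, -, -, hfix⟩ := Colour.exists_field_gen k hq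
    refine fiveBase_of_card h5 (fun s => (E.v1, E.v2, E.v3 (E.z0 γ s) 0)) fun s t g h => ?_
    simp only [Prod.smul_mk, Prod.mk.injEq] at h
    obtain ⟨e1, e2, e3⟩ := key _ _ _ _ g h.1 h.2.1 h.2.2
    have hσ := hfix _ e1
    exact ⟨by rw [← hσ s]; exact e2, e3 hσ⟩
  have h3 : Nat.card k = 3 := by
    rcases (by omega : Nat.card k = 3 ∨ Nat.card k = 4) with e | e
    · exact e
    · exfalso
      have : (1 : k) + 1 = 0 := by
        have h4 := FiniteField.cast_card_eq_zero k
        rw [← Nat.card_eq_fintype_card, e] at h4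
        have : ((1 : k) + 1) * (1 + 1) = 0 := by push_cast at h4; linear_combination h4
        exact mul_self_eq_zero.mp this
      exact hsq 1 (by linear_combination this)
  refine fiveBase_of_card (O := k × k) (by rw [Nat.card_prod, h3]; norm_num)
    (fun o => (E.v1, E.v2, E.v3 (E.z0 o.1 o.2) 0)) fun o o' g h => ?_
  simp only [Prod.smul_mk, Prod.mk.injEq] at h
  obtain ⟨e1, e2, e3⟩ := key _ _ _ _ g h.1 h.2.1 h.2.2
  have hσ := Colour.prime_field_auto (by rw [h3]; norm_num) (D.σ g)
  rw [hσ] at e1 e2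
  exact ⟨Prod.ext e1 e2, e3 hσ⟩

end BData

namespace Semi

variable {k V G : Type*} [Field k] [AddCommGroup V] [Module k V] [Group G]
  [DistribMulAction G V] [Finite k] [Finite G] [Finite V]

/-- A solvable semilinear group all of whose linear part consists of scalars. -/
theorem five_of_lin (S : Semi k V G) (hlin : ∀ g ∈ S.lin, g ∈ S.U) : FiveBase G V := by
  classical
  haveI : Fintype k := Fintype.ofFinite k
  haveI : Fintype V := Fintype.ofFinite V
  obtain ⟨v, hv⟩ := S.nonzero
  by_cases hq : 3 ≤ Nat.card k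
  · obtain ⟨γ, hγ0, hγ1, hfix⟩ := Colour.exists_field_gen k hq
    let f : Fin 5 → V × V × V := ![(v, γ • v, 0), (v, γ • v, v), (v, γ • v, γ • v),
      (v, 0, γ • v), (v, v, γ • v)]
    refine ⟨f, fun i j g h => ?_⟩
    have hg1 : g • v = v := by
      fin_cases i <;> fin_cases j <;> simp [f] at h <;> exact h.1
    have hne1 : γ • v ≠ v := fun e => hγ1 (S.smul_eq_imp hv (e.trans (one_smul k v).symm))
    have hne0 : γ • v ≠ 0 := by simp [hγ0, hv]
    have hsγ : g • (γ • v) = S.σ g γ • v := by rw [S.smul_smul', hg1]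
    have h0 : S.σ g γ • v ≠ 0 := by simp [hγ0, hv]
    have h1 : S.σ g γ • v ≠ v := fun e => hγ1 ((S.σ g).injective
      ((S.smul_eq_imp hv (e.trans (one_smul k v).symm)).trans (map_one _).symm))
    have hboth : i = j ∧ S.σ g γ • v = γ • v := by
      fin_cases i <;> fin_cases j <;>
        simp [f, hg1, hsγ, hne1, hne0, h0, h1, hne1.symm, hne0.symm, h0.symm, h1.symm, hv,
          Ne.symm hv] at h ⊢ <;> simp_all
    refine ⟨hboth.1, ?_⟩
    have hσ : S.σ g = 1 := RingEquiv.ext (hfix _ (S.smul_eq_imp hv hboth.2))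
    obtain ⟨u, rfl⟩ := hlin g (S.mem_lin.mpr hσ)
    rw [S.sc_smul] at hg1
    rw [show u = 1 from Units.ext (S.smul_eq_imp hv (hg1.trans (one_smul k v).symm)), map_one]
  · have hq2 : Nat.card k = 2 := by have := Finite.one_lt_card (α := k); omega
    have hone : ∀ g : G, g = 1 := by
      intro g
      have hσ : S.σ g = 1 :=
        RingEquiv.ext (Colour.prime_field_auto (by rw [hq2]; norm_num) _)
      obtain ⟨u, rfl⟩ := hlin g (S.mem_lin.mpr hσ)
      have : Subsingleton kˣ := Fintype.card_le_one_iff_subsingleton.mp (by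
        rw [← Nat.card_eq_fintype_card, Nat.card_units, hq2])
      rw [Subsingleton.elim u 1, map_one]
    have hcard : 5 ≤ Nat.card (V × V × V) := by
      simp only [Nat.card_prod]
      have : 2 ≤ Nat.card V := @Finite.one_lt_card V _ ⟨⟨v, 0, hv⟩⟩
      nlinarith
    refine fiveBase_of_card hcard id fun i j g h => ?_
    rw [hone g, one_smul] at h
    exact ⟨h, hone g⟩

/-- **Five inequivalent bases of size three in the primitive case.** -/
theorem five (S : Semi k V G) (hsol : Group.IsSolvable G) : FiveBase G V := by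
  classical
  by_cases hlin : ∀ g ∈ S.lin, g ∈ S.U
  · exact S.five_of_lin hlin
  set n := ∏ p ∈ (Nat.card G).primeFactors, p with hn
  obtain ⟨B, hB, hmax⟩ : ∃ B, S.IsB n B ∧ ∀ B', S.IsB n B' → B ≤ B' → B' ≤ B := by
    haveI : Finite {B : Subgroup G // S.IsB n B} := inferInstance
    haveI : Nonempty {B : Subgroup G // S.IsB n B} := ⟨⟨S.U, S.isB_U n⟩⟩
    obtain ⟨B, hB⟩ := Finite.exists_max (fun B : {B : Subgroup G // S.IsB n B} => Nat.card B.1)
    exact ⟨B.1, B.2, fun B' hB' hle =>
      (Subgroup.eq_of_le_of_card_ge hle (hB ⟨B', hB'⟩)).ge⟩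
  let D : BData k V G :=
    { toSemi := S
      B := B
      n := n
      hn := Nat.squarefree_iff_factorization_le_one (Finset.prod_ne_zero_iff.mpr
        fun p hp => (Nat.prime_of_mem_primeFactors hp).ne_zero) |>.mpr fun p => by
          rw [Nat.factorization_prod_apply fun q hq => (Nat.prime_of_mem_primeFactors hq).ne_zero]
          calc ∑ q ∈ (Nat.card G).primeFactors, q.factorization p
              ≤ ∑ q ∈ (Nat.card G).primeFactors, if q = p then 1 else 0 :=
                Finset.sum_le_sum fun q hq => by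
                  rw [(Nat.prime_of_mem_primeFactors hq).factorization, Finsupp.single_apply]
            _ ≤ 1 := by rw [Finset.sum_ite_eq']; split_ifs <;> simp
      isB := hB
      cent := fun g hg hc => S.centralizer_le hsol hB hmax hg hc }
  have hBU : ∃ b : D.B, ∀ u, b ≠ D.z u := by
    by_contra hcon
    simp only [not_exists, not_forall, not_not] at hcon
    refine hlin fun g hg => D.cent g hg fun b hb => ?_
    obtain ⟨u, hu⟩ := hcon ⟨b, hb⟩
    rw [show b = S.sc u from congrArg Subtype.val hu]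
    exact S.sc_comm (S.mem_lin.mp hg) u
  obtain ⟨m, F, hF⟩ := BData.exists_max_frame D
  obtain ⟨i, j, hq⟩ := BData.exists_quat F hF
  obtain ⟨v, hv, hX⟩ := F.exists_fixed
  let E : BData.Ctx F := ⟨i, j, hq, v, hv, hX⟩
  rcases Nat.eq_zero_or_pos m with h | h
  · exact E.five_zero h hBU
  · exact E.five_pos hsol h

end Semi

end Cfsg.Agent.BaseSize
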