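import Mathlib

/-!
# Semilinear groups containing the scalars, and normal subgroups with scalar commutators
-/

set_option autoImplicit false
set_option linter.unusedSectionVars false
set_option linter.style.haveILetI false

open scoped commutatorElement

namespace Cfsg.Agent.BaseSize

/-- `G` acts faithfully and `k`-semilinearly on `V`, contains all scalars, and every normal abelian
subgroup containing all scalars consists of scalars. -/
structure Semi (k V G : Type*) [Field k] [AddCommGroup V] [Module k V] [Group G]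
    [DistribMulAction G V] where
  σ : G →* (k ≃+* k)
  smul_smul' : ∀ (g : G) (c : k) (v : V), g • (c • v) = σ g c • (g • v)
  sc : kˣ →* G
  sc_smul : ∀ (c : kˣ) (v : V), sc c • v = (c : k) • v
  faithful : ∀ g : G, (∀ v : V, g • v = v) → g = 1
  nonzero : ∃ v : V, v ≠ 0
  max_abelian : ∀ N : Subgroup G, N.Normal → (∀ x ∈ N, ∀ y ∈ N, x * y = y * x) →
    (∀ c, sc c ∈ N) → ∀ x ∈ N, x ∈ sc.range

namespace Semi

variable {k V G : Type*} [Field k] [AddCommGroup V] [Module k V] [Group G]
  [DistribMulAction G V] (S : Semi k V G)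

include S in
theorem ext_smul {g h : G} (e : ∀ v : V, g • v = h • v) : g = h := by
  have : h⁻¹ * g = 1 := S.faithful _ fun v => by rw [mul_smul, e, inv_smul_smul]
  exact (inv_mul_eq_one.mp this).symm

include S in
theorem smul_eq_imp {c d : k} {v : V} (hv : v ≠ 0) (e : c • v = d • v) : c = d := by
  by_contra hne
  have : (c - d) • v = 0 := by rw [sub_smul, e, sub_self]
  exact hv ((smul_eq_zero.mp this).resolve_left (sub_ne_zero.mpr hne))

theorem sc_injective : Function.Injective S.sc := by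
  intro c d e
  obtain ⟨v, hv⟩ := S.nonzero
  refine Units.ext (S.smul_eq_imp hv ?_)
  rw [← S.sc_smul, ← S.sc_smul, e]

theorem σ_sc (c : kˣ) : S.σ (S.sc c) = 1 := by
  obtain ⟨v, hv⟩ := S.nonzero
  refine RingEquiv.ext fun t => S.smul_eq_imp hv ?_
  have h := S.smul_smul' (S.sc c) t v
  rw [S.sc_smul, S.sc_smul] at h
  rw [RingAut.one_apply] at *
  rw [smul_comm (c : k) t v] at h
  have := S.smul_eq_imp (smul_ne_zero c.ne_zero hv) h
  exact congrArg (· • v) this.symm

theorem mul_sc (g : G) (c : kˣ) : g * S.sc c = S.sc (Units.map (S.σ g).toMonoidHom c) * g := by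
  refine S.ext_smul fun v => ?_
  rw [mul_smul, mul_smul, S.sc_smul, S.sc_smul, S.smul_smul']
  rfl

theorem sc_comm {g : G} (hg : S.σ g = 1) (c : kˣ) : g * S.sc c = S.sc c * g := by
  rw [S.mul_sc, hg]; congr 1

theorem conj_sc (g : G) (c : kˣ) :
    g * S.sc c * g⁻¹ = S.sc (Units.map (S.σ g).toMonoidHom c) := by
  rw [S.mul_sc, mul_inv_cancel_right]

/-- The scalars. -/
def U : Subgroup G := S.sc.range

theorem U_normal : S.U.Normal := ⟨by
  rintro x ⟨c, rfl⟩ g
  exact ⟨_, (S.conj_sc g c).symm⟩⟩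

/-- The linear part. -/
def lin : Subgroup G := S.σ.ker

theorem mem_lin {g : G} : g ∈ S.lin ↔ S.σ g = 1 := MonoidHom.mem_ker

/-- Normal, linear, abelian modulo the scalars, of squarefree exponent `n` modulo the scalars. -/
def IsB (n : ℕ) (B : Subgroup G) : Prop :=
  B.Normal ∧ S.U ≤ B ∧ B ≤ S.lin ∧ (∀ x ∈ B, ∀ y ∈ B, ⁅x, y⁆ ∈ S.U) ∧ ∀ x ∈ B, x ^ n ∈ S.U

theorem isB_U (n : ℕ) : S.IsB n S.U := by
  refine ⟨S.U_normal, le_rfl, ?_, ?_, fun x hx => S.U.pow_mem hx n⟩
  · rintro _ ⟨c, rfl⟩; exact S.mem_lin.mpr (S.σ_sc c)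
  · rintro x hx y hy
    rw [commutatorElement_def]
    exact S.U.mul_mem (S.U.mul_mem (S.U.mul_mem hx hy) (S.U.inv_mem hx)) (S.U.inv_mem hy)

theorem mul_pow_of_scalar_comm {H : Type*} [Group H] (x y z : H) (hz : ∀ h : H, z * h = h * z)
    (hxy : y * x = z * (x * y)) : ∀ n : ℕ, (x * y) ^ n = z ^ n.choose 2 * (x ^ n * y ^ n) := by
  have hyn : ∀ n : ℕ, y ^ n * x = z ^ n * (x * y ^ n) := by
    intro n
    induction n with
    | zero => simp
    | succ n ih =>
      have hzn : Commute (z ^ n) y := Commute.pow_left (hz y) n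
      calc y ^ (n + 1) * x = y * (y ^ n * x) := by rw [pow_succ', mul_assoc]
        _ = y * (z ^ n * (x * y ^ n)) := by rw [ih]
        _ = z ^ n * ((y * x) * y ^ n) := by
          rw [← mul_assoc y, ← hzn.eq, mul_assoc, mul_assoc y x]
        _ = z ^ n * ((z * (x * y)) * y ^ n) := by rw [hxy]
        _ = z ^ (n + 1) * (x * y ^ (n + 1)) := by
          rw [pow_succ z, pow_succ' y, mul_assoc z, mul_assoc x, ← mul_assoc (z ^ n)]
  intro n
  induction n with
  | zero => simp
  | succ n ih =>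
    have h2 : (n + 1).choose 2 = n.choose 2 + n := by
      rw [Nat.choose_succ_succ' n 1, Nat.choose_one_right, add_comm]
    have hzn : Commute (z ^ n) (x ^ n) := Commute.pow_left (hz _) n
    calc (x * y) ^ (n + 1) = z ^ n.choose 2 * (x ^ n * y ^ n) * (x * y) := by rw [pow_succ, ih]
      _ = z ^ n.choose 2 * (x ^ n * (y ^ n * x * y)) := by simp only [mul_assoc]
      _ = z ^ n.choose 2 * (x ^ n * (z ^ n * (x * y ^ n) * y)) := by rw [hyn]
      _ = z ^ n.choose 2 * (z ^ n * (x ^ n * x * (y ^ n * y))) := by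
        rw [← mul_assoc (x ^ n), ← mul_assoc (x ^ n), ← hzn.eq]
        simp only [mul_assoc]
      _ = z ^ (n + 1).choose 2 * (x ^ (n + 1) * y ^ (n + 1)) := by
        rw [h2, pow_add, pow_succ, pow_succ, mul_assoc (z ^ n.choose 2)]

variable [Finite G]

/-- A maximal `IsB` subgroup contains its centraliser in the linear part, modulo scalars. -/
theorem centralizer_le (hsol : Group.IsSolvable G) {B : Subgroup G}
    (hB : S.IsB (∏ p ∈ (Nat.card G).primeFactors, p) B)
    (hmax : ∀ B', S.IsB (∏ p ∈ (Nat.card G).primeFactors, p) B' → B ≤ B' → B' ≤ B)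
    {g : G} (hg : g ∈ S.lin) (hc : ∀ b ∈ B, g * b = b * g) : g ∈ S.U := by
  classical
  set n := ∏ p ∈ (Nat.card G).primeFactors, p with hn
  obtain ⟨hBn, hUB, hBl, hBc, hBp⟩ := hB
  haveI := hBn
  haveI := S.U_normal
  by_contra hgU
  let C : Subgroup G := S.lin ⊓ Subgroup.centralizer (B : Set G)
  haveI : S.lin.Normal := MonoidHom.normal_ker _
  haveI hCn : C.Normal := inferInstanceAs (S.lin ⊓ Subgroup.centralizer (B : Set G)).Normal
  -- the last derived subgroup of `C` not inside the scalars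
  let D : ℕ → Subgroup G := fun i => Nat.rec C (fun _ H => ⁅H, H⁆) i
  have hDn : ∀ i, (D i).Normal := by
    intro i
    induction i with
    | zero => exact hCn
    | succ i ih => exact Subgroup.commutator_normal _ _
  have hDle : ∀ i, D i ≤ C := by
    intro i
    induction i with
    | zero => exact le_rfl
    | succ i ih =>
      haveI := hDn i
      exact le_trans (Subgroup.commutator_le_left _ _) ih
  have hDser : ∀ i, D i ≤ derivedSeries G i := by
    intro i
    induction i with
    | zero => simp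
    | succ i ih => rw [derivedSeries_succ]; exact Subgroup.commutator_mono ih ih
  obtain ⟨m, hm⟩ := hsol.solvable
  have hex : ∃ i, D i ≤ S.U := ⟨m, le_trans ((hDser m).trans hm.le) bot_le⟩
  have hg0 : g ∈ D 0 := ⟨hg, Subgroup.mem_centralizer_iff.mpr fun b hb => (hc b hb).symm⟩
  obtain ⟨i, hi, hi'⟩ : ∃ i, ¬ D i ≤ S.U ∧ D (i + 1) ≤ S.U := by
    by_contra hcon
    simp only [not_exists, not_and] at hcon
    have : ∀ i, ¬ D i ≤ S.U := by
      intro i
      induction i with
      | zero => exact fun h => hgU (h hg0)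
      | succ i ih => exact hcon i ih
    obtain ⟨i, hi⟩ := hex
    exact this i hi
  haveI := hDn i
  let E : Subgroup G := D i ⊔ S.U
  have hEn : E.Normal := @Subgroup.sup_normal _ _ (D i) S.U (hDn i) S.U_normal
  have hEC : E ≤ C := by
    refine sup_le (hDle i) ?_
    rintro _ ⟨c, rfl⟩
    refine ⟨S.mem_lin.mpr (S.σ_sc c), Subgroup.mem_centralizer_iff.mpr fun b hb => ?_⟩
    exact S.sc_comm (S.mem_lin.mp (hBl hb)) c
  have hEcomm : ∀ x ∈ E, ∀ y ∈ E, ⁅x, y⁆ ∈ S.U := by
    intro x hx y hy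
    obtain ⟨a, ha, u, hu, rfl⟩ := Subgroup.mem_sup_of_normal_right.mp hx
    obtain ⟨b, hb, w, hw, rfl⟩ := Subgroup.mem_sup_of_normal_right.mp hy
    have hab : ⁅a, b⁆ ∈ S.U := hi' (Subgroup.commutator_mem_commutator ha hb)
    have hmk : ∀ s ∈ S.U, (QuotientGroup.mk' S.U) s = 1 := fun s hs =>
      (QuotientGroup.eq_one_iff s).mpr hs
    rw [← QuotientGroup.eq_one_iff, ← QuotientGroup.mk'_apply, map_commutatorElement, map_mul,
      map_mul, hmk u hu, hmk w hw, mul_one, mul_one, ← map_commutatorElement]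
    exact hmk _ hab
  -- an element of prime order modulo the scalars
  obtain ⟨x0, hx0, hx0U⟩ : ∃ x ∈ D i, x ∉ S.U := by simpa [SetLike.le_def] using hi
  have hx0E : x0 ∈ E := Subgroup.mem_sup_left hx0
  have hord : orderOf (QuotientGroup.mk' S.U x0) ≠ 1 := by
    rw [ne_eq, orderOf_eq_one_iff, QuotientGroup.mk'_apply, QuotientGroup.eq_one_iff]
    exact hx0U
  obtain ⟨r, hr, hrd⟩ := Nat.exists_prime_and_dvd hord
  obtain ⟨t, ht⟩ := hrd
  have htp : 0 < orderOf (QuotientGroup.mk' S.U x0) := orderOf_pos _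
  have htpos : 0 < t := Nat.pos_of_ne_zero fun e => by rw [e, mul_zero] at ht; omega
  have hx1U : x0 ^ t ∉ S.U := by
    rw [← QuotientGroup.eq_one_iff, ← QuotientGroup.mk'_apply, map_pow,
      ← orderOf_dvd_iff_pow_eq_one]
    intro hdvd
    have := Nat.le_of_dvd htpos hdvd
    have h2 := hr.two_le
    rw [ht] at this
    nlinarith
  have hx1r : (x0 ^ t) ^ r ∈ S.U := by
    rw [← QuotientGroup.eq_one_iff, ← QuotientGroup.mk'_apply, ← pow_mul, map_pow, mul_comm, ← ht,
      pow_orderOf_eq_one]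
  have hrn : r ∣ n := by
    refine Finset.dvd_prod_of_mem (fun p => p) (Nat.mem_primeFactors.mpr ⟨hr, ?_, Nat.card_pos.ne'⟩)
    refine dvd_trans ⟨t, ht⟩ (dvd_trans (orderOf_map_dvd _ _) (orderOf_dvd_natCard x0))
  -- the elements of `E` whose `n`-th power is scalar
  let B' : Subgroup G :=
    { carrier := {z | ∃ b ∈ B, ∃ e ∈ E, e ^ n ∈ S.U ∧ z = b * e}
      one_mem' := ⟨1, B.one_mem, 1, E.one_mem, by simp, (one_mul 1).symm⟩
      mul_mem' := by
        rintro _ _ ⟨b, hb, e, he, hen, rfl⟩ ⟨b', hb', e', he', hen', rfl⟩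
        refine ⟨b * b', B.mul_mem hb hb', e * e', E.mul_mem he he', ?_, ?_⟩
        · obtain ⟨c, hcc⟩ := hEcomm e' he' e he
          have hlin : ∀ h ∈ E, S.sc c * h = h * S.sc c := fun h hh =>
            (S.sc_comm (S.mem_lin.mp (hEC hh).1) c).symm
          have hsE : S.sc c ∈ E := Subgroup.mem_sup_right ⟨c, rfl⟩
          have hxy : e' * e = S.sc c * (e * e') := by rw [hcc]; group
          have key := congrArg (Subtype.val : E → G) (mul_pow_of_scalar_comm
            (⟨e, he⟩ : E) ⟨e', he'⟩ ⟨S.sc c, hsE⟩ (fun h => Subtype.ext (hlin h h.2))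
            (Subtype.ext hxy) n)
          push_cast at key
          rw [key]
          exact S.U.mul_mem (S.U.pow_mem ⟨c, rfl⟩ _) (S.U.mul_mem hen hen')
        · have hcomm : b' * e = e * b' := Subgroup.mem_centralizer_iff.mp (hEC he).2 b' hb'
          calc b * e * (b' * e') = b * (e * b') * e' := by simp only [mul_assoc]
            _ = b * (b' * e) * e' := by rw [hcomm]
            _ = b * b' * (e * e') := by simp only [mul_assoc]
      inv_mem' := by
        rintro _ ⟨b, hb, e, he, hen, rfl⟩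
        refine ⟨b⁻¹, B.inv_mem hb, e⁻¹, E.inv_mem he,
          by rw [inv_pow]; exact S.U.inv_mem hen, ?_⟩
        rw [← mul_inv_rev, Subgroup.mem_centralizer_iff.mp (hEC he).2 b hb] }
  have hB' : S.IsB n B' := by
    refine ⟨⟨?_⟩, ?_, ?_, ?_, ?_⟩
    · rintro _ ⟨b, hb, e, he, hen, rfl⟩ a
      refine ⟨a * b * a⁻¹, hBn.conj_mem b hb a, a * e * a⁻¹,
        hEn.conj_mem e he a, ?_, by group⟩
      rw [conj_pow]
      exact S.U_normal.conj_mem _ hen a
    · intro u hu
      exact ⟨u, hUB hu, 1, E.one_mem, by simp, (mul_one u).symm⟩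
    · rintro _ ⟨b, hb, e, he, -, rfl⟩
      exact S.lin.mul_mem (hBl hb) (hEC he).1
    · rintro _ ⟨b, hb, e, he, -, rfl⟩ _ ⟨b', hb', e', he', -, rfl⟩
      rw [← QuotientGroup.eq_one_iff, ← QuotientGroup.mk'_apply]
      set π := QuotientGroup.mk' S.U
      have hU1 : ∀ s ∈ S.U, π s = 1 := fun s hs => (QuotientGroup.eq_one_iff s).mpr hs
      have c1 : Commute (π b) (π b') := by
        rw [← commutatorElement_eq_one_iff_commute, ← map_commutatorElement]
        exact hU1 _ (hBc b hb b' hb')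
      have c2 : Commute (π e) (π e') := by
        rw [← commutatorElement_eq_one_iff_commute, ← map_commutatorElement]
        exact hU1 _ (hEcomm e he e' he')
      have c3 : Commute (π b) (π e') :=
        (show Commute b e' from Subgroup.mem_centralizer_iff.mp (hEC he').2 b hb).map π
      have c4 : Commute (π b') (π e) :=
        (show Commute b' e from Subgroup.mem_centralizer_iff.mp (hEC he).2 b' hb').map π
      rw [map_commutatorElement, commutatorElement_eq_one_iff_commute, map_mul, map_mul]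
      exact (c1.mul_right c3).mul_left (c4.symm.mul_right c2)
    · rintro _ ⟨b, hb, e, he, hen, rfl⟩
      rw [Commute.mul_pow (Subgroup.mem_centralizer_iff.mp (hEC he).2 b hb)]
      exact S.U.mul_mem (hBp b hb) hen
  have hle : B' ≤ B := hmax B' hB' fun b hb => ⟨b, hb, 1, E.one_mem, by simp, (mul_one b).symm⟩
  have hx1B : x0 ^ t ∈ B := by
    obtain ⟨s, hs⟩ := hrn
    exact hle ⟨1, B.one_mem, x0 ^ t, E.pow_mem hx0E t,
      by rw [hs, pow_mul]; exact S.U.pow_mem hx1r s, (one_mul _).symm⟩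
  -- it centralises `B`, so it lies in an abelian normal subgroup
  let Z : Subgroup G := B ⊓ Subgroup.centralizer (B : Set G)
  refine hx1U (S.max_abelian Z inferInstance
    (fun x hx y hy => (Subgroup.mem_centralizer_iff.mp hx.2 y hy.1).symm) ?_ _ ?_)
  · intro c
    exact ⟨hUB ⟨c, rfl⟩, Subgroup.mem_centralizer_iff.mpr fun b hb =>
      S.sc_comm (S.mem_lin.mp (hBl hb)) c⟩
  · exact ⟨hx1B, (hEC (E.pow_mem hx0E t)).2⟩

end Semi

end Cfsg.Agent.BaseSize
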